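import Mathlib

/-!
# S3793 design (helper23), Shult–Gross: shared definitions of the OUTER part

`FitH m G`: `G` has a normal series of length `m` with nilpotent factors (the conclusion of S3793).
`SCfg G A X p`: ambient finite group `Γ`, `G ⊴ Γ` solvable, `A ≤ Γ` a cyclic `p`-group (`p` odd)
with `C_G(A) = 1` and `p ∤ |G|`, `X ≤ A` the subgroup of order `p`.
-/

set_option autoImplicit false
set_option linter.unusedSectionVars false

namespace Cfsg.Agent.Helper23.SGF

universe u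

/-- Fitting height at most `m`: the conclusion of S3793 -/
def FitH (m : ℕ) (G : Type u) [Group G] : Prop :=
  ∃ F : Fin (m + 1) → Subgroup G, F 0 = ⊥ ∧ F (Fin.last m) = ⊤ ∧ Monotone F ∧
    (∀ i, (F i).Normal) ∧
    ∀ i : Fin m, ∃ k : ℕ, (F i.succ).lowerCentralSeries k ≤ F i.castSucc

/-- the configuration: `G ⊴ Γ` solvable, `A ≤ Γ` a cyclic `p`-group, `p` odd, `p ∤ |G|`,
`C_G(A) = 1`, `X ≤ A` of order `p` -/
structure SCfg {Γ : Type u} [Group Γ] (G A X : Subgroup Γ) (p : ℕ) : Prop where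
  hp : p.Prime
  hp2 : p ≠ 2
  normal : G.Normal
  sol : Group.IsSolvable ↥G
  cyc : IsCyclic ↥A
  pgrp : IsPGroup p ↥A
  hXA : X ≤ A
  cardX : Nat.card ↥X = p
  cop : (Nat.card ↥G).Coprime p
  fpf : ∀ g ∈ G, (∀ a ∈ A, a * g = g * a) → g = 1

end Cfsg.Agent.Helper23.SGF
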