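import Mathlib
import Cfsg.Agent.Lib.Helper8.HHLin14

/-!
# S3793 design (helper23): definitions for the KEY LEMMA (linear part)

`Γ` finite group, `ρ : Representation F Γ V`, `Q ⊴ Γ` a `q`-group, `A ≤ Γ` cyclic `p`-group, `X ≤ A` of order `p`.
`KN = Q ∩ ker ρ`, `KZ = relCenter Q KN` (`KZ / KN = Z(Q / KN)`), `KW` = characters of `KZ / KN` (weights),
`KP χ` = the weight projection (helper8's `wproj`), `InRad χ g` = `g ∈ Q` lies in the radical of the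
commutator pairing on the weight space of `χ`.  `Tight` = the minimal configuration reached by `key_core`.
-/

set_option autoImplicit false
set_option linter.unusedSectionVars false

namespace Cfsg.Agent.Helper23.SGF

open Module Cfsg.Agent.Helper8.FrobLin Cfsg.Agent.Helper8.HHLin

universe u v w

/-- the KEY LEMMA at level `N = |Q| + dim V` -/
def KeyStmt (F : Type w) [Field F] (p q N : ℕ) : Prop :=
  ∀ (Γ : Type u) [Group Γ] [Finite Γ] (V : Type v) [AddCommGroup V] [Module F V]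
    [FiniteDimensional F V] (ρ : Representation F Γ V) (Q A X : Subgroup Γ),
    Nat.card ↥Q + finrank F V = N →
    (∀ a ∈ A, ∀ g ∈ Q, a * g * a⁻¹ ∈ Q) → IsPGroup q ↥Q → IsCyclic ↥A → IsPGroup p ↥A →
    X ≤ A → Nat.card ↥X = p → fixedBy ρ A = ⊥ →
    (∀ g ∈ Q, (∀ a ∈ A, a * g = g * a) → g = 1) →
    ∀ g ∈ Q, ∀ x ∈ X, ρ x * ρ g = ρ g * ρ x

section Defs

variable {F : Type w} [Field F] [IsAlgClosed F] {Γ : Type u} [Group Γ] [Finite Γ]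
  {V : Type v} [AddCommGroup V] [Module F V]
  (ρ : Representation F Γ V) (Q : Subgroup Γ) [Q.Normal]

attribute [local instance] dualAct

/-- `Q ∩ ker ρ` -/
abbrev KN : Subgroup Γ := kerIn ρ Q

/-- the preimage in `Q` of the centre of `Q / (Q ∩ ker ρ)` -/
abbrev KZ : Subgroup Γ := relCenter Q (kerIn ρ Q)

/-- the weights: characters of `KZ / KN` -/
abbrev KW : Type (max u w) := (↥(KZ ρ Q) ⧸ (KN ρ Q).subgroupOf (KZ ρ Q)) →* Fˣ

/-- the weight projections -/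
noncomputable def KP (χ : KW ρ Q) : V →ₗ[F] V :=
  letI : Fintype ↥(KZ ρ Q) := Fintype.ofFinite _
  wproj ρ (KZ ρ Q) (KN ρ Q) χ

theorem KP_def (χ : KW ρ Q) :
    KP ρ Q χ = (letI : Fintype ↥(KZ ρ Q) := Fintype.ofFinite _
      wproj ρ (KZ ρ Q) (KN ρ Q) χ) := rfl

/-- `g ∈ Q` lies in the radical of the commutator pairing on the weight space of `χ` -/
def InRad (χ : KW ρ Q) (g : Γ) : Prop :=
  g ∈ Q ∧ ∀ h ∈ Q, ∀ w ∈ LinearMap.range (KP ρ Q χ), ρ (g * h * g⁻¹ * h⁻¹) w = w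

/-- the minimal configuration -/
structure Tight [FiniteDimensional F V] (A X : Subgroup Γ) (p q : ℕ) : Prop where
  hp : p.Prime
  hp2 : p ≠ 2
  hq : q.Prime
  hpq : p ≠ q
  hpF : (p : F) ≠ 0
  hqF : (q : F) ≠ 0
  htop : Q ⊔ A = ⊤
  hQ : IsPGroup q ↥Q
  hAc : IsCyclic ↥A
  hA : IsPGroup p ↥A
  hXA : X ≤ A
  hX : Nat.card ↥X = p
  hfix : fixedBy ρ A = ⊥
  hfpf : ∀ g ∈ Q, (∀ a ∈ A, a * g = g * a) → g = 1
  hVpos : 0 < finrank F V
  hNZ : KN ρ Q < KZ ρ Q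
  hZQ : KZ ρ Q < Q
  hQZ : ∀ a ∈ Q, ∀ b ∈ Q, a * b * a⁻¹ * b⁻¹ ∈ KZ ρ Q
  hfpfA : ∀ e ∈ A, e ≠ 1 → ∀ m ∈ Q, e * m * e⁻¹ * m⁻¹ ∈ KZ ρ Q → m ∈ KZ ρ Q
  hsingle : ∃ χ₀ : KW ρ Q, ∀ χ : KW ρ Q, KP ρ Q χ ≠ 0 → ∃ a ∈ A, χ = a • χ₀

end Defs

end Cfsg.Agent.Helper23.SGF
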