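import Mathlib
import Cfsg.Agent.Lib.SG3.SGFKDefs

/-! S3793 design (helper23), piece SGF-KRAD (see plans/S3793_plan.md, STAGE 2b): the radical of the
commutator pairing on a weight space is a subgroup between `Z` and `Q`, normalised by `Q` and by the
stabiliser of the weight. -/

set_option autoImplicit false
set_option linter.unusedSectionVars false
set_option linter.style.haveILetI false

namespace Cfsg.Agent.Helper23.SGF

open Module Cfsg.Agent.Helper8.FrobLin Cfsg.Agent.Helper8.HHLin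

universe u v w

attribute [local instance] dualAct

variable {F : Type w} [Field F] [IsAlgClosed F] {Γ : Type u} [Group Γ] [Finite Γ]
  {V : Type v} [AddCommGroup V] [Module F V] [FiniteDimensional F V]
  {ρ : Representation F Γ V} {Q : Subgroup Γ} [Q.Normal] {A X : Subgroup Γ} {p q : ℕ}

/-- an element fixing the weight `χ` maps the weight space into itself -/
theorem sgf_krad_stab (χ : KW ρ Q) (a : Γ) (ha : a • χ = χ) (w : V)
    (hw : w ∈ LinearMap.range (KP ρ Q χ)) : ρ a w ∈ LinearMap.range (KP ρ Q χ) := by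
  letI : Fintype ↥(KZ ρ Q) := Fintype.ofFinite _
  have h := range_wproj_le_comap ρ (KZ ρ Q) (KN ρ Q) χ a ha
  have hw' : w ∈ LinearMap.range (wproj ρ (KZ ρ Q) (KN ρ Q) χ) := hw
  exact h hw'

/-- the elements of `Q` fix every weight -/
theorem sgf_krad_smul (χ : KW ρ Q) {a : Γ} (ha : a ∈ Q) : a • χ = χ :=
  central_smul Q (KN ρ Q) ha χ

theorem sgf_krad_rho_rho_inv (ρ : Representation F Γ V) (g : Γ) (x : V) : ρ g (ρ g⁻¹ x) = x := by
  have := rho_inv_rho ρ g⁻¹ x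
  rwa [inv_inv] at this

/-- an operator of the representation fixing a vector: so does its inverse -/
theorem sgf_krad_inv_fix (ρ : Representation F Γ V) (c : Γ) (x : V) (h : ρ c x = x) :
    ρ c⁻¹ x = x := by
  conv_lhs => rw [← h]
  exact rho_inv_rho ρ c x

/-- conjugation by an element fixing `χ` preserves the radical -/
theorem sgf_krad_conj (χ : KW ρ Q) (a : Γ) (ha : a • χ = χ) (g : Γ) (hg : InRad ρ Q χ g) :
    InRad ρ Q χ (a * g * a⁻¹) := by
  have hQn : Q.Normal := inferInstance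
  refine ⟨hQn.conj_mem g hg.1 a, ?_⟩
  intro h hh w hw
  have hai : a⁻¹ • χ = χ := inv_smul_eq_iff.mpr ha.symm
  have h1 : a * g * a⁻¹ * h * (a * g * a⁻¹)⁻¹ * h⁻¹ =
      a * (g * (a⁻¹ * h * a⁻¹⁻¹) * g⁻¹ * (a⁻¹ * h * a⁻¹⁻¹)⁻¹) * a⁻¹ := by group
  rw [h1, rho_mul_apply, rho_mul_apply]
  have hw1 : ρ a⁻¹ w ∈ LinearMap.range (KP ρ Q χ) := sgf_krad_stab χ a⁻¹ hai w hw
  rw [hg.2 (a⁻¹ * h * a⁻¹⁻¹) (hQn.conj_mem h hh a⁻¹) _ hw1]
  exact sgf_krad_rho_rho_inv ρ a w

/-- the radical of the commutator pairing on the weight space of `χ` is a subgroup `R` with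
`Z ≤ R ≤ Q`, normalised by `Q` and by the stabiliser of `χ` in `A` -/
theorem exists_rad (T : Tight ρ Q A X p q) (χ : KW ρ Q) :
    ∃ R : Subgroup Γ, (∀ g, g ∈ R ↔ InRad ρ Q χ g) ∧ KZ ρ Q ≤ R ∧ R ≤ Q ∧
      (∀ a ∈ Q, ∀ g ∈ R, a * g * a⁻¹ ∈ R) ∧
      (∀ b ∈ A, b • χ = χ → ∀ g ∈ R, b * g * b⁻¹ ∈ R) := by
  let R : Subgroup Γ :=
    { carrier := {g | InRad ρ Q χ g}
      one_mem' := by
        refine ⟨Q.one_mem, ?_⟩
        intro h _ w _
        have : (1 : Γ) * h * 1⁻¹ * h⁻¹ = 1 := by group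
        rw [this, map_one]; rfl
      mul_mem' := by
        rintro g g' hg hg'
        refine ⟨Q.mul_mem hg.1 hg'.1, ?_⟩
        intro h hh w hw
        have h1 : g * g' * h * (g * g')⁻¹ * h⁻¹ =
            g * (g' * h * g'⁻¹ * h⁻¹) * g⁻¹ * (g * h * g⁻¹ * h⁻¹) := by group
        rw [h1, rho_mul_apply, hg.2 h hh w hw, rho_mul_apply, rho_mul_apply]
        have hw1 : ρ g⁻¹ w ∈ LinearMap.range (KP ρ Q χ) :=
          sgf_krad_stab χ g⁻¹ (sgf_krad_smul χ (Q.inv_mem hg.1)) w hw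
        rw [hg'.2 h hh _ hw1]
        exact sgf_krad_rho_rho_inv ρ g w
      inv_mem' := by
        rintro g hg
        refine ⟨Q.inv_mem hg.1, ?_⟩
        intro h hh w hw
        have h1 : g⁻¹ * h * g⁻¹⁻¹ * h⁻¹ = g⁻¹ * (g * h * g⁻¹ * h⁻¹)⁻¹ * g := by group
        rw [h1, rho_mul_apply, rho_mul_apply]
        have hw1 : ρ g w ∈ LinearMap.range (KP ρ Q χ) :=
          sgf_krad_stab χ g (sgf_krad_smul χ hg.1) w hw
        rw [sgf_krad_inv_fix ρ _ _ (hg.2 h hh _ hw1)]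
        exact rho_inv_rho ρ g w }
  have hmem : ∀ g, g ∈ R ↔ InRad ρ Q χ g := fun g => Iff.rfl
  refine ⟨R, hmem, ?_, ?_, ?_, ?_⟩
  · intro z hz
    rw [hmem]
    have hz' := mem_relCenter.mp hz
    refine ⟨hz'.1, ?_⟩
    intro h hh w _
    have h1 := hz'.2 h hh
    rw [mem_kerIn] at h1
    rw [h1.2]; rfl
  · intro g hg
    exact ((hmem g).mp hg).1
  · intro a ha g hg
    rw [hmem] at hg ⊢
    exact sgf_krad_conj χ a (sgf_krad_smul χ ha) g hg
  · intro b _ hb g hg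
    rw [hmem] at hg ⊢
    exact sgf_krad_conj χ b hb g hg

end Cfsg.Agent.Helper23.SGF
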