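import Mathlib
import Cfsg.Agent.Lib.SG3.SGFKDefs

/-! S3793 design (helper23), piece SGF-KCYC (see plans/S3793_plan.md, STAGE 2). -/

set_option autoImplicit false
set_option linter.unusedSectionVars false

namespace Cfsg.Agent.Helper23.SGF

open Module Cfsg.Agent.Helper8.FrobLin Cfsg.Agent.Helper8.HHLin

universe u v w

attribute [local instance] dualAct

/-- every non-trivial subgroup of a cyclic `p`-group contains the subgroup of order `p` -/
theorem le_of_ne_bot_of_cyclic {H : Type*} [Group H] [Finite H] (A X B : Subgroup H) {p : ℕ}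
    (hp : p.Prime) (hAc : IsCyclic ↥A) (hA : IsPGroup p ↥A) (hXA : X ≤ A)
    (hX : Nat.card ↥X = p) (hBA : B ≤ A) (hB : B ≠ ⊥) : X ≤ B := by
  classical
  have : Fact p.Prime := ⟨hp⟩
  have : Fintype ↥A := Fintype.ofFinite _
  have : Fintype ↥X := Fintype.ofFinite _
  -- an element of order `p` in `B`
  have hBp : IsPGroup p ↥B := by
    have h1 : IsPGroup p ↥(B.subgroupOf A) := hA.to_subgroup _
    exact h1.of_equiv (Subgroup.subgroupOfEquivOfLe hBA)
  have hdvd : p ∣ Nat.card ↥B := by
    rcases hBp.card_eq_or_dvd with h1 | h1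
    · exact absurd (Subgroup.card_eq_one.1 h1) hB
    · exact h1
  obtain ⟨b, hb⟩ := exists_prime_orderOf_dvd_card' p hdvd
  have hbord : orderOf (b : H) = p := by rw [Subgroup.orderOf_coe]; exact hb
  have hbp : (b : H) ^ p = 1 := by rw [← hbord]; exact pow_orderOf_eq_one _
  -- the set of solutions of `a ^ p = 1` in `A`
  let S : Finset ↥A := Finset.univ.filter (fun a : ↥A => a ^ p = 1)
  have hScard : S.card ≤ p := IsCyclic.card_pow_eq_one_le hp.pos
  let f : ↥X → ↥A := fun x => ⟨x, hXA x.2⟩
  have hf : Function.Injective f := by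
    intro x y hxy
    apply Subtype.ext
    exact congrArg (fun z : ↥A => (z : H)) hxy
  let T : Finset ↥A := Finset.univ.image f
  have hTcard : T.card = p := by
    rw [Finset.card_image_of_injective _ hf, Finset.card_univ, ← Nat.card_eq_fintype_card, hX]
  have hTS : T ⊆ S := by
    intro a ha
    obtain ⟨x, -, rfl⟩ := Finset.mem_image.1 ha
    refine Finset.mem_filter.2 ⟨Finset.mem_univ _, ?_⟩
    apply Subtype.ext
    have h1 : (x : ↥X) ^ Nat.card ↥X = 1 := pow_card_eq_one'
    rw [hX] at h1
    have h2 := congrArg (fun z : ↥X => (z : H)) h1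
    simpa [f] using h2
  have hTeq : T = S := Finset.eq_of_subset_of_card_le hTS (by rw [hTcard]; exact hScard)
  have hbS : (⟨(b : H), hBA b.2⟩ : ↥A) ∈ S := by
    refine Finset.mem_filter.2 ⟨Finset.mem_univ _, ?_⟩
    apply Subtype.ext
    simpa using hbp
  rw [← hTeq] at hbS
  obtain ⟨x, -, hx⟩ := Finset.mem_image.1 hbS
  have hbX : (b : H) ∈ X := by
    have h1 := congrArg (fun z : ↥A => (z : H)) hx
    have h2 : (x : H) = (b : H) := by simpa [f] using h1
    rw [← h2]
    exact x.2
  -- `zpowers b = X`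
  have hzX : Subgroup.zpowers (b : H) = X := by
    apply Subgroup.eq_of_le_of_card_ge
    · rw [Subgroup.zpowers_le]; exact hbX
    · rw [Nat.card_zpowers, hbord, hX]
  rw [← hzX, Subgroup.zpowers_le]
  exact b.2

end Cfsg.Agent.Helper23.SGF
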