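import Mathlib
import Cfsg.Agent.Lib.SG3.SGFKDefs

/-! S3793 design (helper23), piece SGF-KSTAB (see plans/S3793_plan.md, STAGE 2): a vector of the
weight space of `χ` fixed by the stabiliser of `χ` in `A` is zero when `A` has no fixed vector. -/

set_option autoImplicit false
set_option linter.unusedSectionVars false
set_option linter.style.haveILetI false

namespace Cfsg.Agent.Helper23.SGF

open Module Cfsg.Agent.Helper8.FrobLin Cfsg.Agent.Helper8.HHLin

universe u v w

attribute [local instance] dualAct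

/-- the sum of `ρ a v` over a subgroup is fixed by that subgroup -/
theorem sgf_kstab_sum_fixed {F : Type*} [Field F] {G : Type*} [Group G]
    {V : Type*} [AddCommGroup V] [Module F V] (ρ : Representation F G V) (A : Subgroup G)
    [Fintype ↥A] (v : V) : (∑ a : ↥A, ρ (a : G) v) ∈ fixedBy ρ A := by
  rw [mem_fixedBy]
  intro b hb
  rw [map_sum]
  have h1 : ∀ a : ↥A, ρ b (ρ (a : G) v) = ρ (((⟨b, hb⟩ : ↥A) * a : ↥A) : G) v := by
    intro a
    rw [Subgroup.coe_mul, map_mul]
    rfl
  rw [Finset.sum_congr rfl (fun a _ => h1 a)]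
  exact Fintype.sum_equiv (Equiv.mulLeft (⟨b, hb⟩ : ↥A)) _ _ (fun a => rfl)

/-- STABILISER FACT: a vector of the weight space of `χ` fixed by the stabiliser of `χ` in `A` is
zero when `A` has no non-zero fixed vector (the `A`-sum of `v` is `A`-fixed, and its `χ`-component is
`|Stab_A χ| • v`) -/
theorem stab_fixed_eq_zero {F : Type*} [Field F] [IsAlgClosed F] {G : Type*} [Group G] [Finite G]
    {V : Type*} [AddCommGroup V] [Module F V] (ρ : Representation F G V)
    (M N : Subgroup G) [M.Normal] [N.Normal] [Fintype ↥M] (A : Subgroup G)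
    (hfix : fixedBy ρ A = ⊥) (hcharM : (Nat.card ↥M : F) ≠ 0) (hcharA : (Nat.card ↥A : F) ≠ 0)
    (χ : (↥M ⧸ N.subgroupOf M) →* Fˣ) (v : V) (hv : v ∈ LinearMap.range (wproj ρ M N χ))
    (hB : ∀ a ∈ A, a • χ = χ → ρ a v = v) : v = 0 := by
  classical
  letI : Fintype ↥A := Fintype.ofFinite _
  -- `v` is fixed by the projection
  have hPv : wproj ρ M N χ v = v := by
    obtain ⟨v₀, rfl⟩ := hv
    rw [wproj_orth ρ M N hcharM χ χ v₀, if_pos rfl]
  -- the `A`-sum vanishes
  have hu : (∑ a : ↥A, ρ (a : G) v) = 0 := by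
    have := sgf_kstab_sum_fixed ρ A v
    rw [hfix, Submodule.mem_bot] at this
    exact this
  -- its `χ`-component
  have hterm : ∀ a : ↥A, wproj ρ M N χ (ρ (a : G) v) = if (a : G) • χ = χ then v else 0 := by
    intro a
    have h1 : ρ (a : G) v = wproj ρ M N ((a : G) • χ) (ρ (a : G) v) := by
      conv_lhs => rw [← hPv]
      exact wproj_equi ρ M N (a : G) χ v
    have h2 : wproj ρ M N χ (ρ (a : G) v) =
        wproj ρ M N χ (wproj ρ M N ((a : G) • χ) (ρ (a : G) v)) := congrArg _ h1
    rw [h2, wproj_orth ρ M N hcharM χ ((a : G) • χ) (ρ (a : G) v)]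
    by_cases h : (a : G) • χ = χ
    · rw [if_pos h.symm, if_pos h, hB (a : G) a.2 h, hPv]
    · rw [if_neg (fun h' => h h'.symm), if_neg h]
  have hsum : (∑ a : ↥A, if (a : G) • χ = χ then v else 0) = 0 := by
    rw [← Finset.sum_congr rfl (fun a _ => hterm a), ← map_sum, hu, map_zero]
  rw [Finset.sum_ite, Finset.sum_const_zero, add_zero, Finset.sum_const] at hsum
  -- the stabiliser in `A`
  set B : Subgroup ↥A := (MulAction.stabilizer G χ).subgroupOf A with hBdef
  have hcardB : (Finset.univ.filter (fun a : ↥A => (a : G) • χ = χ)).card = Nat.card ↥B := by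
    rw [Nat.card_eq_fintype_card]
    symm
    apply Fintype.card_of_subtype
    intro a
    rw [Finset.mem_filter, hBdef, Subgroup.mem_subgroupOf, MulAction.mem_stabilizer_iff]
    simp
  rw [hcardB] at hsum
  have hdvd : Nat.card ↥B ∣ Nat.card ↥A := Subgroup.card_subgroup_dvd_card B
  have hBF : (Nat.card ↥B : F) ≠ 0 := by
    obtain ⟨k, hk⟩ := hdvd
    intro h0
    apply hcharA
    rw [hk, Nat.cast_mul, h0, zero_mul]
  rw [← Nat.cast_smul_eq_nsmul F] at hsum
  rcases smul_eq_zero.mp hsum with h | h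
  · exact absurd h hBF
  · exact h

end Cfsg.Agent.Helper23.SGF
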