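import Mathlib
import Cfsg.Agent.Lib.SG3.SGFKDefs
import Cfsg.Agent.Lib.SG3.SGFKCYC
import Cfsg.Agent.Lib.SG3.SGFKSTAB
/-! S3793 design (helper23), piece SGF-KXFIX (see plans/S3793_plan.md, STAGE 2). STUB. -/

set_option autoImplicit false
set_option linter.unusedSectionVars false

namespace Cfsg.Agent.Helper23.SGF

open Module Cfsg.Agent.Helper8.FrobLin Cfsg.Agent.Helper8.HHLin

universe u v w

attribute [local instance] dualAct

/-- a weight that occurs is fixed by the subgroup `X` of order `p` of the cyclic `p`-group `A`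
(its stabiliser in `A` is non-trivial by `stab_fixed_eq_zero`, so contains `X`) -/
theorem smul_eq_of_wproj_ne_zero {F : Type*} [Field F] [IsAlgClosed F] {G : Type*} [Group G]
    [Finite G] {V : Type*} [AddCommGroup V] [Module F V] (ρ : Representation F G V)
    (M N : Subgroup G) [M.Normal] [N.Normal] [Fintype ↥M] (A X : Subgroup G) {p : ℕ}
    (hp : p.Prime) (hAc : IsCyclic ↥A) (hA : IsPGroup p ↥A) (hXA : X ≤ A)
    (hX : Nat.card ↥X = p) (hfix : fixedBy ρ A = ⊥) (hcharM : (Nat.card ↥M : F) ≠ 0)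
    (hpF : (p : F) ≠ 0) (χ : (↥M ⧸ N.subgroupOf M) →* Fˣ) (hχ : wproj ρ M N χ ≠ 0) :
    ∀ x ∈ X, x • χ = χ := by
  have hpF' : Fact p.Prime := ⟨hp⟩
  -- `(card A : F) ≠ 0`
  have hcharA : (Nat.card ↥A : F) ≠ 0 := by
    obtain ⟨k, hk⟩ := (IsPGroup.iff_card (p := p) (G := ↥A)).mp hA
    rw [hk, Nat.cast_pow]
    exact pow_ne_zero k hpF
  -- the stabiliser of `χ` in `A` is non-trivial
  have hBne : A ⊓ MulAction.stabilizer G χ ≠ ⊥ := by
    intro hB
    apply hχ
    apply LinearMap.ext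
    intro v
    rw [LinearMap.zero_apply]
    apply stab_fixed_eq_zero ρ M N A hfix hcharM hcharA χ (wproj ρ M N χ v)
      (LinearMap.mem_range_self _ v)
    intro a ha hfixa
    have ha' : a ∈ A ⊓ MulAction.stabilizer G χ :=
      ⟨ha, MulAction.mem_stabilizer_iff.mpr hfixa⟩
    rw [hB, Subgroup.mem_bot] at ha'
    rw [ha', map_one]
    rfl
  have hXB : X ≤ A ⊓ MulAction.stabilizer G χ :=
    le_of_ne_bot_of_cyclic A X (A ⊓ MulAction.stabilizer G χ) hp hAc hA hXA hX inf_le_left hBne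
  intro x hx
  exact MulAction.mem_stabilizer_iff.mp (hXB hx).2

end Cfsg.Agent.Helper23.SGF
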