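import Mathlib
import Cfsg.Agent.Lib.SG3.SGFKDefs
import Cfsg.Agent.Lib.SG3.SGFKSTAB
/-! S3793 design (helper23), piece SGF-KHHL (see plans/S3793_plan.md, STAGE 2b): the generic local
Hall–Higman analysis. -/

set_option autoImplicit false
set_option linter.unusedSectionVars false

namespace Cfsg.Agent.Helper23.SGF

open Module Cfsg.Agent.Helper8.FrobLin Cfsg.Agent.Helper8.HHLin

universe u v w

attribute [local instance] dualAct

/-- cardinality of `X.subgroupOf K` for `X ≤ K` -/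
theorem sgf_khhl_card_subgroupOf {H : Type*} [Group H] {X K : Subgroup H} (h : X ≤ K) :
    Nat.card ↥(X.subgroupOf K) = Nat.card ↥X :=
  Nat.card_congr (Subgroup.subgroupOfEquivOfLe h).toEquiv

/-- LOCAL HALL–HIGMAN ANALYSIS (generic): `Q ⊴ H` whose commutators act as scalars on `W`, `B ≤ H`
abelian with no non-zero fixed vector, acting fixed-point-freely on `Q / R` where
`R = relCenter Q (kerIn ρ Q)`.  Then `|Q / R| = s²` with `s ≤ |B'| - 1` for some `1 ≠ B' ≤ B`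
(`B'` = stabiliser in `B` of a weight `μ` of `R` on `W`; `hh_bound` + `hh_square` on the weight
space of `μ` for the stabiliser of `μ` in `H`). -/
theorem hh_local {F : Type w} [Field F] [IsAlgClosed F] {H : Type u} [Group H] [Finite H]
    {W : Type v} [AddCommGroup W] [Module F W] [FiniteDimensional F W]
    (ρ : Representation F H W) (Q B : Subgroup H) [Q.Normal]
    (hW : 0 < finrank F W)
    (hab : ∀ a ∈ B, ∀ b ∈ B, a * b = b * a)
    (hcharQ : (Nat.card ↥Q : F) ≠ 0) (hcharB : (Nat.card ↥B : F) ≠ 0)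
    (hfix : fixedBy ρ B = ⊥)
    (hscal : ∀ g ∈ Q, ∀ h ∈ Q, ∃ c : F, ρ (g * h * g⁻¹ * h⁻¹) = c • (1 : W →ₗ[F] W))
    (hfpf : ∀ e ∈ B, e ≠ 1 → ∀ m ∈ Q,
      e * m * e⁻¹ * m⁻¹ ∈ relCenter Q (kerIn ρ Q) → m ∈ relCenter Q (kerIn ρ Q)) :
    ∃ (B' : Subgroup H) (s : ℕ), B' ≤ B ∧ B' ≠ ⊥ ∧
      Nat.card ↥Q = s ^ 2 * Nat.card ↥(relCenter Q (kerIn ρ Q)) ∧ s ≤ Nat.card ↥B' - 1 := by
  classical
  set N : Subgroup H := kerIn ρ Q with hN
  haveI hNn : N.Normal := kerIn_normal ρ Q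
  have hNQ : N ≤ Q := kerIn_le ρ Q
  set R : Subgroup H := relCenter Q N with hR
  haveI hRn : R.Normal := relCenter_normal Q N
  have hRQ : R ≤ Q := relCenter_le Q N
  have hNR : N ≤ R := le_relCenter hNQ
  have hRcomm : ∀ a ∈ R, ∀ b ∈ R, a * b * a⁻¹ * b⁻¹ ∈ N := relCenter_comm Q N
  -- commutators of `Q` lie in `R`
  have hcommQ : ∀ a ∈ Q, ∀ b ∈ Q, a * b * a⁻¹ * b⁻¹ ∈ Q := fun a ha b hb =>
    Q.mul_mem (Q.mul_mem (Q.mul_mem ha hb) (Q.inv_mem ha)) (Q.inv_mem hb)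
  have hQQR : ∀ a ∈ Q, ∀ b ∈ Q, a * b * a⁻¹ * b⁻¹ ∈ R := by
    intro a ha b hb
    rw [hR, mem_relCenter]
    refine ⟨hcommQ a ha b hb, ?_⟩
    intro u hu
    rw [hN, mem_kerIn]
    refine ⟨hcommQ _ (hcommQ a ha b hb) u hu, ?_⟩
    obtain ⟨c, hc⟩ := hscal a ha b hb
    rw [← rho_comm_iff_commutator, hc]
    rw [smul_mul_assoc, one_mul, mul_smul_comm, mul_one]
  -- characteristic
  have hcharR : (Nat.card ↥R : F) ≠ 0 := by
    intro h0
    apply hcharQ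
    obtain ⟨k, hk⟩ := Subgroup.card_dvd_of_le hRQ
    rw [hk]; push_cast; rw [h0, zero_mul]
  -- the weights of `R / N`
  letI : Fintype ↥R := Fintype.ofFinite _
  letI : Fintype ((↥R ⧸ N.subgroupOf R) →* Fˣ) := Fintype.ofFinite _
  set P : ((↥R ⧸ N.subgroupOf R) →* Fˣ) → (W →ₗ[F] W) := fun χ => wproj ρ R N χ with hP
  have hrS : LinearMap.range (∑ χ, P χ) = ⊤ := by
    rw [range_sum_wproj ρ R N hNR hRcomm hcharR, hN, fixedBy_kerIn]
  obtain ⟨μ, hμ⟩ : ∃ μ, P μ ≠ 0 := by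
    by_contra hcon
    push Not at hcon
    have h0 : (∑ χ, P χ) = 0 := Finset.sum_eq_zero (fun χ _ => hcon χ)
    rw [h0, LinearMap.range_zero] at hrS
    have h1 : finrank F W = 0 := by
      have h2 : finrank F (⊥ : Submodule F W) = finrank F (⊤ : Submodule F W) := by rw [hrS]
      rw [finrank_bot, finrank_top] at h2
      exact h2.symm
    omega
  -- the weight space and the stabiliser
  set W' : Submodule F W := LinearMap.range (P μ) with hW'
  have hW'ne : W' ≠ ⊥ := by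
    intro h
    apply hμ
    rw [hW', LinearMap.range_eq_bot] at h
    exact h
  set H' : Subgroup H := MulAction.stabilizer H μ with hH'
  have hQH' : Q ≤ H' := by
    intro g hg
    rw [hH', MulAction.mem_stabilizer_iff]
    exact central_smul Q N hg μ
  have hRH' : R ≤ H' := hRQ.trans hQH'
  set B' : Subgroup H := B ⊓ H' with hB'
  have hB'B : B' ≤ B := inf_le_left
  have hB'H' : B' ≤ H' := inf_le_right
  -- no non-zero vector of `W'` is fixed by `B'`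
  have hnofix : ∀ v ∈ W', (∀ a ∈ B', ρ a v = v) → v = 0 := by
    intro v hv hfixv
    apply stab_fixed_eq_zero ρ R N B hfix hcharR hcharB μ v hv
    intro a ha hsm
    apply hfixv a
    exact ⟨ha, MulAction.mem_stabilizer_iff.mpr hsm⟩
  have hB'ne : B' ≠ ⊥ := by
    intro hbot
    apply hW'ne
    rw [eq_bot_iff]
    intro v hv
    rw [Submodule.mem_bot]
    apply hnofix v hv
    intro a ha
    rw [hbot, Subgroup.mem_bot] at ha
    rw [ha, map_one]
    rfl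
  -- the restricted representation
  set ρH : Representation F ↥H' W := ρ.comp H'.subtype with hρH
  have hinvW' : ∀ g : ↥H', W' ≤ W'.comap (ρH g) := by
    intro g
    have hg : (g : H) • μ = μ := MulAction.mem_stabilizer_iff.mp g.2
    exact range_wproj_le_comap ρ R N μ (g : H) hg
  set ρ' : Representation F ↥H' ↥W' := Representation.subrepresentation ρH W' hinvW' with hρ'
  have hρ'a : ∀ (g : ↥H') (w : ↥W'), ((ρ' g w : ↥W') : W) = ρ (g : H) (w : W) := fun g w => rfl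
  have hV' : 0 < finrank F ↥W' := by
    rw [Module.finrank_pos_iff]
    exact (Submodule.nontrivial_iff_ne_bot).mpr hW'ne
  -- the subgroups of `H'`
  set M₁ : Subgroup ↥H' := Q.subgroupOf H' with hM₁
  set N₁ : Subgroup ↥H' := R.subgroupOf H' with hN₁
  set E₁ : Subgroup ↥H' := B'.subgroupOf H' with hE₁
  haveI : M₁.Normal := Subgroup.normal_subgroupOf
  haveI : N₁.Normal := Subgroup.normal_subgroupOf
  have hN₁M₁ : N₁ ≤ M₁ := by
    intro x hx
    rw [hN₁, Subgroup.mem_subgroupOf] at hx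
    rw [hM₁, Subgroup.mem_subgroupOf]
    exact hRQ hx
  have hcomm₁ : ∀ a ∈ M₁, ∀ b ∈ M₁, a * b * a⁻¹ * b⁻¹ ∈ N₁ := by
    intro a ha b hb
    rw [hM₁, Subgroup.mem_subgroupOf] at ha hb
    rw [hN₁, Subgroup.mem_subgroupOf]
    exact hQQR _ ha _ hb
  -- the character
  let ι : ↥N₁ →* ↥R :=
    { toFun := fun z => ⟨((z : ↥H') : H), Subgroup.mem_subgroupOf.mp z.2⟩
      map_one' := rfl
      map_mul' := fun _ _ => rfl }
  set lam : ↥N₁ →* Fˣ := (μ.comp (QuotientGroup.mk' (N.subgroupOf R))).comp ι with hlamdef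
  have hlam : ∀ (z : ↥N₁) (v : ↥W'), ρ' (z : ↥H') v = ((lam z : Fˣ) : F) • v := by
    intro z v
    apply Subtype.ext
    rw [hρ'a]
    have h1 := (mem_range_wproj ρ R N hcharR μ (v : W)).mp v.2 (ι z)
    exact h1
  -- a non-zero vector of `W'`
  obtain ⟨w₀, hw₀, hw₀0⟩ := (Submodule.ne_bot_iff _).mp hW'ne
  have hnd₁ : ∀ g ∈ M₁, (∀ y ∈ M₁, ρ' (y * g * y⁻¹ * g⁻¹) = 1) → g ∈ N₁ := by
    intro g hg hall
    rw [hM₁, Subgroup.mem_subgroupOf] at hg
    rw [hN₁, Subgroup.mem_subgroupOf, hR, mem_relCenter]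
    refine ⟨hg, ?_⟩
    intro u hu
    -- `u g u⁻¹ g⁻¹ ∈ N`
    have hkey : u * (g : H) * u⁻¹ * (g : H)⁻¹ ∈ N := by
      rw [hN, mem_kerIn]
      refine ⟨hcommQ u hu _ hg, ?_⟩
      obtain ⟨c, hc⟩ := hscal u hu _ hg
      have h1 := hall ⟨u, hQH' hu⟩ (by rw [hM₁, Subgroup.mem_subgroupOf]; exact hu)
      have h2 := congrArg (fun T : ↥W' →ₗ[F] ↥W' => ((T ⟨w₀, hw₀⟩ : ↥W') : W)) h1
      have h3 : ρ (u * (g : H) * u⁻¹ * (g : H)⁻¹) w₀ = w₀ := h2
      rw [hc] at h3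
      have h4 : c • w₀ = w₀ := h3
      have h5 : (c - 1) • w₀ = 0 := by rw [sub_smul, one_smul, h4, sub_self]
      rcases smul_eq_zero.mp h5 with h6 | h6
      · rw [hc, sub_eq_zero.mp h6, one_smul]
      · exact absurd h6 hw₀0
    have e : (g : H) * u * (g : H)⁻¹ * u⁻¹ = (u * (g : H) * u⁻¹ * (g : H)⁻¹)⁻¹ := by group
    rw [e]
    exact N.inv_mem hkey
  have hfpf₁ : ∀ e ∈ E₁, e ≠ 1 → ∀ m ∈ M₁, e * m * e⁻¹ * m⁻¹ ∈ N₁ → m ∈ N₁ := by
    intro e he he1 m hm hem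
    rw [hE₁, Subgroup.mem_subgroupOf] at he
    rw [hM₁, Subgroup.mem_subgroupOf] at hm
    rw [hN₁, Subgroup.mem_subgroupOf] at hem ⊢
    refine hfpf (e : H) (hB'B he) ?_ (m : H) hm hem
    intro h1
    apply he1
    exact Subtype.ext h1
  have hab₁ : ∀ a ∈ E₁, ∀ b ∈ E₁, a * b = b * a := by
    intro a ha b hb
    rw [hE₁, Subgroup.mem_subgroupOf] at ha hb
    apply Subtype.ext
    exact hab _ (hB'B ha) _ (hB'B hb)
  have hcardM₁ : Nat.card ↥M₁ = Nat.card ↥Q := sgf_khhl_card_subgroupOf hQH'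
  have hcardN₁ : Nat.card ↥N₁ = Nat.card ↥R := sgf_khhl_card_subgroupOf hRH'
  have hcardE₁ : Nat.card ↥E₁ = Nat.card ↥B' := sgf_khhl_card_subgroupOf hB'H'
  have hcharM₁ : (Nat.card ↥M₁ : F) ≠ 0 := by rw [hcardM₁]; exact hcharQ
  have hcharE₁ : (Nat.card ↥E₁ : F) ≠ 0 := by
    rw [hcardE₁]
    intro h0
    apply hcharB
    obtain ⟨k, hk⟩ := Subgroup.card_dvd_of_le hB'B
    rw [hk]; push_cast; rw [h0, zero_mul]
  have hfix₁ : fixedBy ρ' E₁ = ⊥ := by
    rw [eq_bot_iff]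
    intro v hv
    rw [mem_fixedBy] at hv
    rw [Submodule.mem_bot]
    apply Subtype.ext
    apply hnofix (v : W) v.2
    intro a ha
    have h1 := hv ⟨a, hB'H' ha⟩ (by rw [hE₁, Subgroup.mem_subgroupOf]; exact ha)
    have h2 := congrArg Subtype.val h1
    rw [hρ'a] at h2
    exact h2
  have hbound := hh_bound ρ' M₁ N₁ E₁ hN₁M₁ hcomm₁ lam hlam hnd₁ hfpf₁ hab₁ hcharM₁ hcharE₁ hfix₁ hV'
  obtain ⟨s, hs⟩ := hh_square ρ' M₁ N₁ hcomm₁ lam hlam hV' hN₁M₁ hnd₁ hcharM₁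
  rw [hcardM₁, hcardN₁] at hs
  rw [hcardM₁, hcardN₁, hcardE₁] at hbound
  refine ⟨B', s, hB'B, hB'ne, hs, ?_⟩
  rw [hs] at hbound
  have hRpos : 0 < Nat.card ↥R := Nat.card_pos
  have h1 : s ^ 2 ≤ (Nat.card ↥B' - 1) ^ 2 := Nat.le_of_mul_le_mul_right hbound hRpos
  exact (Nat.pow_le_pow_iff_left (by norm_num)).mp h1

end Cfsg.Agent.Helper23.SGF
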