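import Mathlib
import Cfsg.Agent.Lib.SG3.SGFKDefs

/-! S3793 design (helper23), piece SGF-KAINV (see plans/S3793_plan.md, STAGE 2). -/

set_option autoImplicit false
set_option linter.unusedSectionVars false

namespace Cfsg.Agent.Helper23.SGF

open Module Cfsg.Agent.Helper8.FrobLin Cfsg.Agent.Helper8.HHLin
open scoped commutatorElement

universe u v w

attribute [local instance] dualAct

/-- an abelian group `A ≥ X` normalising `Q` normalises `[X, Q]` -/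
theorem conj_mem_commutator_of_abelian {H : Type*} [Group H] (A X Q : Subgroup H)
    (hab : ∀ a ∈ A, ∀ b ∈ A, a * b = b * a) (hXA : X ≤ A)
    (hAQ : ∀ a ∈ A, ∀ g ∈ Q, a * g * a⁻¹ ∈ Q) :
    ∀ a ∈ A, ∀ c ∈ ⁅X, Q⁆, a * c * a⁻¹ ∈ ⁅X, Q⁆ := by
  intro a ha
  have hle : ⁅X, Q⁆ ≤ (⁅X, Q⁆).comap (MulAut.conj a).toMonoidHom := by
    rw [Subgroup.commutator_le]
    intro x hx g hg
    rw [Subgroup.mem_comap]
    have h1 : (MulAut.conj a).toMonoidHom ⁅x, g⁆ = ⁅x, a * g * a⁻¹⁆ := by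
      have hxa : a * x = x * a := hab a ha x (hXA hx)
      have hxa' : a * x⁻¹ = x⁻¹ * a := hab a ha x⁻¹ (hXA (X.inv_mem hx))
      simp only [MulEquiv.toMonoidHom_eq_coe, MonoidHom.coe_coe, MulAut.conj_apply,
        commutatorElement_def]
      calc a * (x * g * x⁻¹ * g⁻¹) * a⁻¹ = (a * x) * g * x⁻¹ * g⁻¹ * a⁻¹ := by group
        _ = (x * a) * g * x⁻¹ * g⁻¹ * a⁻¹ := by rw [hxa]
        _ = x * a * g * (a⁻¹ * (a * x⁻¹)) * g⁻¹ * a⁻¹ := by group
        _ = x * a * g * (a⁻¹ * (x⁻¹ * a)) * g⁻¹ * a⁻¹ := by rw [hxa']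
        _ = x * (a * g * a⁻¹) * x⁻¹ * (a * g * a⁻¹)⁻¹ := by group
    rw [h1]
    exact Subgroup.commutator_mem_commutator hx (hAQ a ha g hg)
  intro c hc
  have := hle hc
  rw [Subgroup.mem_comap] at this
  simpa using this

end Cfsg.Agent.Helper23.SGF
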