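import Mathlib
import Cfsg.Agent.Lib.SG3.SGFKDefs

/-! S3793 design (helper23), piece SGF-KCC (see plans/S3793_plan.md, STAGE 2). Proved by helper22. -/

set_option autoImplicit false
set_option linter.unusedSectionVars false

namespace Cfsg.Agent.Helper23.SGF

open Module Cfsg.Agent.Helper8.FrobLin Cfsg.Agent.Helper8.HHLin

universe u v w

attribute [local instance] dualAct

/-- an element fixing every occurring weight of the abelian section `M / N` (with `N` acting
trivially) commutes with `M` on `V` -/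
theorem comm_of_smul_eq {F : Type*} [Field F] [IsAlgClosed F] {G : Type*} [Group G] [Finite G]
    {V : Type*} [AddCommGroup V] [Module F V] (ρ : Representation F G V)
    (M N : Subgroup G) [M.Normal] [N.Normal] [Fintype ↥M] (hNM : N ≤ M)
    (hcomm : ∀ a ∈ M, ∀ b ∈ M, a * b * a⁻¹ * b⁻¹ ∈ N) (hcharM : (Nat.card ↥M : F) ≠ 0)
    (htopN : fixedBy ρ N = ⊤) (x : G)
    (hx : ∀ χ : (↥M ⧸ N.subgroupOf M) →* Fˣ, wproj ρ M N χ ≠ 0 → x • χ = χ) :
    ∀ m ∈ M, ρ x * ρ m = ρ m * ρ x := by
  classical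
  intro m hm
  let _ : Fintype ((↥M ⧸ N.subgroupOf M) →* Fˣ) := Fintype.ofFinite _
  have hr := range_sum_wproj ρ M N hNM hcomm hcharM
  rw [htopN] at hr
  apply LinearMap.ext
  intro v
  have hv : v ∈ LinearMap.range (∑ χ : (↥M ⧸ N.subgroupOf M) →* Fˣ, wproj ρ M N χ) := by
    rw [hr]; trivial
  obtain ⟨u, rfl⟩ := hv
  rw [LinearMap.sum_apply, Module.End.mul_apply, Module.End.mul_apply]
  simp only [map_sum]
  apply Finset.sum_congr rfl
  intro χ _
  by_cases hχ : wproj ρ M N χ = 0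
  · rw [hχ]; simp
  · have hfix := hx χ hχ
    set w := wproj ρ M N χ u with hw
    have hwr : w ∈ LinearMap.range (wproj ρ M N χ) := ⟨u, rfl⟩
    have h1 := (mem_range_wproj ρ M N hcharM χ w).mp hwr ⟨m, hm⟩
    have hxw : ρ x w ∈ LinearMap.range (wproj ρ M N χ) := by
      refine ⟨ρ x u, ?_⟩
      have h3 := wproj_equi ρ M N x χ u
      rw [hfix] at h3
      exact h3.symm
    have h2 := (mem_range_wproj ρ M N hcharM χ (ρ x w)).mp hxw ⟨m, hm⟩
    change ρ m w = _ at h1
    change ρ m (ρ x w) = _ at h2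
    rw [h1, h2, map_smul]


end Cfsg.Agent.Helper23.SGF
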