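import Mathlib
import Cfsg.Agent.Lib.SG3.SGFKDefs
import Cfsg.Agent.Lib.SG3.SGFKCYC
/-! S3793 design (helper23), piece SGF-KFPFA (see plans/S3793_plan.md, STAGE 2); implemented by helper11. -/

set_option autoImplicit false
set_option linter.unusedSectionVars false

namespace Cfsg.Agent.Helper23.SGF

open Module Cfsg.Agent.Helper8.FrobLin Cfsg.Agent.Helper8.HHLin

universe u v w

attribute [local instance] dualAct

/-- `a * m * a⁻¹ * m⁻¹ ∈ Z` says that the images of `a` and `m` in `H ⧸ Z` commute -/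
theorem sgf_kfpfa_mem_iff {H : Type*} [Group H] (Z : Subgroup H) [Z.Normal] (a m : H) :
    a * m * a⁻¹ * m⁻¹ ∈ Z ↔
      a ∈ (Subgroup.centralizer {(QuotientGroup.mk' Z m)}).comap (QuotientGroup.mk' Z) := by
  rw [Subgroup.mem_comap, Subgroup.mem_centralizer_singleton_iff, ← QuotientGroup.eq_one_iff]
  have h1 : ((a * m * a⁻¹ * m⁻¹ : H) : H ⧸ Z) =
      (QuotientGroup.mk' Z a * QuotientGroup.mk' Z m) *
        (QuotientGroup.mk' Z m * QuotientGroup.mk' Z a)⁻¹ := by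
    simp [mul_assoc]
  rw [h1, mul_inv_eq_one]

/-- if the subgroup `X` of order `p` acts fixed-point-freely on `Q / Z` then so does every
non-trivial element of the cyclic `p`-group `A` -/
theorem fpf_of_fpf_X {H : Type*} [Group H] [Finite H] (A X Q Z : Subgroup H) [Z.Normal] {p : ℕ}
    (hp : p.Prime) (hAc : IsCyclic ↥A) (hA : IsPGroup p ↥A) (hXA : X ≤ A)
    (hX : Nat.card ↥X = p)
    (hfpfX : ∀ e ∈ X, e ≠ 1 → ∀ m ∈ Q, e * m * e⁻¹ * m⁻¹ ∈ Z → m ∈ Z) :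
    ∀ e ∈ A, e ≠ 1 → ∀ m ∈ Q, e * m * e⁻¹ * m⁻¹ ∈ Z → m ∈ Z := by
  intro e heA he1 m hm hem
  set S : Subgroup H :=
    (Subgroup.centralizer {(QuotientGroup.mk' Z m)}).comap (QuotientGroup.mk' Z) with hS
  have heS : e ∈ S := (sgf_kfpfa_mem_iff Z e m).mp hem
  have hB : A ⊓ S ≠ ⊥ := by
    intro h
    have h1 : e ∈ A ⊓ S := ⟨heA, heS⟩
    rw [h, Subgroup.mem_bot] at h1
    exact he1 h1
  have hXB : X ≤ A ⊓ S := le_of_ne_bot_of_cyclic A X (A ⊓ S) hp hAc hA hXA hX inf_le_left hB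
  have hXne : ∃ x ∈ X, x ≠ 1 := by
    by_contra hcon
    push Not at hcon
    have h1 : X = ⊥ := (Subgroup.eq_bot_iff_forall X).mpr hcon
    rw [h1, Subgroup.card_bot] at hX
    exact hp.one_lt.ne hX
  obtain ⟨x, hxX, hx1⟩ := hXne
  have hxS : x ∈ S := (hXB hxX).2
  exact hfpfX x hxX hx1 m hm ((sgf_kfpfa_mem_iff Z x m).mpr hxS)

end Cfsg.Agent.Helper23.SGF
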