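import Mathlib
import Cfsg.Agent.Lib.SG3.SGFKDefs

/-! S3793 design (helper23), piece SGF-KORB (see plans/S3793_plan.md, STAGE 2). Proved by helper28. -/

set_option autoImplicit false
set_option linter.unusedSectionVars false

namespace Cfsg.Agent.Helper23.SGF

open Module Cfsg.Agent.Helper8.FrobLin Cfsg.Agent.Helper8.HHLin

universe u v w

attribute [local instance] dualAct

/-- the sum of the weight spaces over the `A`-orbit of `χ` is invariant; if it is everything then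
every occurring weight lies in the orbit -/
theorem orbit_sub {F : Type*} [Field F] [IsAlgClosed F] {G : Type*} [Group G] [Finite G]
    {V : Type*} [AddCommGroup V] [Module F V] (ρ : Representation F G V)
    (M N : Subgroup G) [M.Normal] [N.Normal] [Fintype ↥M] (A : Subgroup G)
    (hA : ∀ (g : G) (χ : (↥M ⧸ N.subgroupOf M) →* Fˣ), ∃ a ∈ A, g • χ = a • χ)
    (hcharM : (Nat.card ↥M : F) ≠ 0) (χ : (↥M ⧸ N.subgroupOf M) →* Fˣ) :
    ∃ W : Submodule F V, (∀ g : G, W ≤ W.comap (ρ g)) ∧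
      LinearMap.range (wproj ρ M N χ) ≤ W ∧
      (W = ⊤ → ∀ χ' : (↥M ⧸ N.subgroupOf M) →* Fˣ, wproj ρ M N χ' ≠ 0 → ∃ a ∈ A, χ' = a • χ) := by
  refine ⟨⨆ a : ↥A, LinearMap.range (wproj ρ M N ((a : G) • χ)), ?_, ?_, ?_⟩
  · intro g
    refine iSup_le fun a => ?_
    rintro _ ⟨v, rfl⟩
    rw [Submodule.mem_comap, wproj_equi]
    obtain ⟨a', ha', e⟩ := hA g ((a : G) • χ)
    rw [e, ← mul_smul]
    exact Submodule.mem_iSup_of_mem (⟨a' * (a : G), mul_mem ha' a.2⟩ : ↥A) ⟨ρ g v, rfl⟩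
  · refine le_iSup_of_le (1 : ↥A) ?_
    rw [Subgroup.coe_one, one_smul]
  · intro hW χ' hχ'
    by_contra hcon
    push_neg at hcon
    apply hχ'
    rw [← LinearMap.ker_eq_top, eq_top_iff, ← hW]
    refine iSup_le fun a => ?_
    rintro _ ⟨v, rfl⟩
    rw [LinearMap.mem_ker, wproj_orth ρ M N hcharM χ' ((a : G) • χ) v, if_neg (hcon (a : G) a.2)]

end Cfsg.Agent.Helper23.SGF
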