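import Mathlib
import Cfsg.Agent.Lib.SG3.SGFDefs

/-! S3793 design (helper23), piece SGF-COP (see plans/S3793_plan.md). Proved by helper10. -/

set_option autoImplicit false
set_option linter.unusedSectionVars false

namespace Cfsg.Agent.Helper23.SGF

universe u

/-- a fixed-point-free automorphism of `p`-power order lives on a `p'`-group -/
theorem coprime_of_fpf {G : Type u} [Group G] [Finite G] {p : ℕ} (hp : p.Prime) (σ : MulAut G)
    (n : ℕ) (hσ : σ ^ (p ^ n) = 1) (hfpf : ∀ g : G, σ g = g → g = 1) :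
    (Nat.card G).Coprime p := by
  haveI : Fact p.Prime := ⟨hp⟩
  have hdvd : orderOf σ ∣ p ^ n := orderOf_dvd_of_pow_eq_one hσ
  obtain ⟨k, -, hk⟩ := (Nat.dvd_prime_pow hp).1 hdvd
  have hP : IsPGroup p ↥(Subgroup.zpowers σ) := by
    apply IsPGroup.of_card (n := k)
    rw [Nat.card_zpowers, hk]
  have hmod : Nat.card G ≡ Nat.card ↥(MulAction.fixedPoints ↥(Subgroup.zpowers σ) G) [MOD p] :=
    hP.card_modEq_card_fixedPoints G
  have hfix : MulAction.fixedPoints ↥(Subgroup.zpowers σ) G = {1} := by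
    ext g
    rw [MulAction.mem_fixedPoints, Set.mem_singleton_iff]
    constructor
    · intro h
      exact hfpf g (h ⟨σ, Subgroup.mem_zpowers σ⟩)
    · rintro rfl τ
      exact map_one τ.1
  rw [hfix] at hmod
  have h1 : Nat.card ↥({1} : Set G) = 1 := by simp
  rw [h1] at hmod
  rw [Nat.coprime_comm, Nat.Prime.coprime_iff_not_dvd hp]
  intro hd
  have h0 : Nat.card G % p = 0 := Nat.mod_eq_zero_of_dvd hd
  unfold Nat.ModEq at hmod
  rw [h0, Nat.mod_eq_of_lt hp.one_lt] at hmod
  exact absurd hmod (by norm_num)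

end Cfsg.Agent.Helper23.SGF
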