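import Mathlib
import Cfsg.Agent.Lib.SG3.SGFDefs

/-! S3793 design (helper23), piece SGF-NILP (see plans/S3793_plan.md): `[G, X]` centralising `V` and nilpotent
modulo `V` is nilpotent.  (helper18) -/

set_option autoImplicit false
set_option linter.unusedSectionVars false

namespace Cfsg.Agent.Helper23.SGF

universe u

variable {Γ : Type u} [Group Γ]

/-- `L = [G, X]` centralises `V` and is nilpotent modulo `V`: then `L` is nilpotent -/
theorem nilpotent_of_two [Finite Γ] (G X V C : Subgroup Γ) [V.Normal] (hVC : V ≤ C)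
    (hCV : C ≤ Subgroup.centralizer (V : Set Γ)) (hLC : ⁅G, X⁆ ≤ C)
    (h1 : Group.IsNilpotent
      ↥⁅G.map (QuotientGroup.mk' V), X.map (QuotientGroup.mk' V)⁆) :
    Group.IsNilpotent ↥⁅G, X⁆ := by
  have hmap : (⁅G, X⁆).map (QuotientGroup.mk' V) =
      ⁅G.map (QuotientGroup.mk' V), X.map (QuotientGroup.mk' V)⁆ :=
    Subgroup.map_commutator G X _
  have hnil : Group.IsNilpotent ↥((⁅G, X⁆).map (QuotientGroup.mk' V)) := by
    rw [hmap]; exact h1
  haveI := hnil
  refine isNilpotent_of_ker_le_center ((QuotientGroup.mk' V).subgroupMap ⁅G, X⁆) ?_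
  intro x hx
  rw [MonoidHom.mem_ker] at hx
  have hxV : (x : Γ) ∈ V := by
    have h2 := congrArg Subtype.val hx
    rw [MonoidHom.subgroupMap_apply_coe, Subgroup.coe_one] at h2
    exact (QuotientGroup.eq_one_iff _).mp h2
  rw [Subgroup.mem_center_iff]
  intro y
  apply Subtype.ext
  have hyC : (y : Γ) ∈ Subgroup.centralizer (V : Set Γ) := hCV (hLC y.2)
  rw [Subgroup.mem_centralizer_iff] at hyC
  have h3 := hyC (x : Γ) hxV
  simp only [Subgroup.coe_mul]
  exact h3.symm

end Cfsg.Agent.Helper23.SGF
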