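import Mathlib
import Cfsg.Agent.Lib.SG3.SGFDefs
import Cfsg.Agent.Lib.FPQO.FPQOQUOT
import Cfsg.Agent.S0022

/-! S3793 design (helper23), piece SGF-QUOT (see plans/S3793_plan.md): the configuration `SCfg`
passes to `Γ / N` (copy of helper24's `cfg_quot`).  (helper9) -/

set_option autoImplicit false
set_option linter.unusedSectionVars false

namespace Cfsg.Agent.Helper23.SGF

universe u

variable {Γ : Type u} [Group Γ]

/-- an element of `A ⊓ G` is trivial (`A` a `p`-group, `p ∤ |G|`) -/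
theorem sgf_quot_eq_one [Finite Γ] {G A X : Subgroup Γ} {p : ℕ} (cfg : SCfg G A X p) {x : Γ}
    (hxA : x ∈ A) (hxG : x ∈ G) : x = 1 := by
  haveI : Fact p.Prime := ⟨cfg.hp⟩
  obtain ⟨e, he⟩ := IsPGroup.iff_card.1 cfg.pgrp
  have h1 : orderOf x ∣ Nat.card ↥A := Subgroup.orderOf_dvd_natCard A hxA
  have h2 : orderOf x ∣ Nat.card ↥G := Subgroup.orderOf_dvd_natCard G hxG
  rw [he] at h1
  have hcop : (Nat.card ↥G).Coprime (p ^ e) := Nat.Coprime.pow_right e cfg.cop
  have h3 : orderOf x = 1 := Nat.eq_one_of_dvd_coprimes hcop h2 h1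
  exact orderOf_eq_one_iff.mp h3

/-- the configuration passes to `Γ / N` for `N ⊴ Γ` inside `G` -/
theorem scfg_quot [Finite Γ] {G A X : Subgroup Γ} {p : ℕ} (cfg : SCfg G A X p) (N : Subgroup Γ)
    [N.Normal] (hNG : N ≤ G) :
    SCfg (G.map (QuotientGroup.mk' N)) (A.map (QuotientGroup.mk' N))
      (X.map (QuotientGroup.mk' N)) p := by
  have hGn : G.Normal := cfg.normal
  have hAN : ∀ x ∈ A, x ∈ N → x = 1 := fun x hxA hxN => sgf_quot_eq_one cfg hxA (hNG hxN)
  have hXN : ∀ x ∈ X, x ∈ N → x = 1 := fun x hxX hxN => hAN x (cfg.hXA hxX) hxN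
  refine ⟨cfg.hp, cfg.hp2, ?_, ?_, ?_, ?_, ?_, ?_, ?_, ?_⟩
  · exact Subgroup.Normal.map cfg.normal _ (QuotientGroup.mk'_surjective N)
  · have := cfg.sol
    exact Group.isSolvable_of_surjective (MonoidHom.subgroupMap_surjective (QuotientGroup.mk' N) G)
  · have := cfg.cyc
    exact isCyclic_of_surjective ((QuotientGroup.mk' N).subgroupMap A)
      (MonoidHom.subgroupMap_surjective (QuotientGroup.mk' N) A)
  · exact cfg.pgrp.map (QuotientGroup.mk' N)
  · exact Subgroup.map_mono cfg.hXA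
  · rw [Cfsg.Agent.Helper24.FPQO.fpqo_quot_card_map X N hXN, cfg.cardX]
  · have hdvd : Nat.card ↥(G.map (QuotientGroup.mk' N)) ∣ Nat.card ↥G := Subgroup.card_map_dvd _ _
    exact Nat.Coprime.coprime_dvd_left hdvd cfg.cop
  · intro g' hg' hcent
    obtain ⟨g, hg, rfl⟩ := Subgroup.mem_map.mp hg'
    have hfix : ∀ a ∈ A, a * g * a⁻¹ * g⁻¹ ∈ N := by
      intro a ha
      have h1 := hcent _ (Subgroup.mem_map_of_mem (QuotientGroup.mk' N) ha)
      rw [← QuotientGroup.eq_one_iff]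
      have h2 : ((a * g * a⁻¹ * g⁻¹ : Γ) : Γ ⧸ N) =
          (QuotientGroup.mk' N a * QuotientGroup.mk' N g) *
            (QuotientGroup.mk' N a)⁻¹ * (QuotientGroup.mk' N g)⁻¹ := by
        simp
      rw [h2, h1]
      group
    have hAG : A ≤ Subgroup.normalizer (G : Set Γ) := by
      rw [Subgroup.normalizer_eq_top]; exact le_top
    have hGN : G ≤ Subgroup.normalizer (N : Set Γ) := by
      rw [Subgroup.normalizer_eq_top]; exact le_top
    have hAN' : A ≤ Subgroup.normalizer (N : Set Γ) := by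
      rw [Subgroup.normalizer_eq_top]; exact le_top
    have hcop : (Nat.card ↥A).Coprime (Nat.card ↥G) := by
      haveI : Fact p.Prime := ⟨cfg.hp⟩
      obtain ⟨e, he⟩ := IsPGroup.iff_card.1 cfg.pgrp
      rw [he]
      exact Nat.Coprime.pow_left e cfg.cop.symm
    obtain ⟨c, hc, hcN⟩ := Cfsg.Agent.S0022.result A G hAG hcop (Or.inr cfg.sol) N hNG hGN hAN'
      g hg hfix
    rw [Subgroup.mem_inf] at hc
    have hc1 : c = 1 := by
      apply cfg.fpf c hc.1
      intro a ha
      exact (Subgroup.mem_centralizer_iff.mp hc.2 a ha)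
    rw [hc1, mul_one] at hcN
    have hgN : g ∈ N := by
      have := N.inv_mem hcN
      rwa [inv_inv] at this
    rw [QuotientGroup.mk'_apply, QuotientGroup.eq_one_iff]
    exact hgN

end Cfsg.Agent.Helper23.SGF
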