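import Mathlib
import Cfsg.Agent.Lib.SG3.SGFKDefs

/-! S3793 design (helper23), piece SGF-KAR1 (see plans/S3793_plan.md, STAGE 2b). STUB. -/

set_option autoImplicit false
set_option linter.unusedSectionVars false

namespace Cfsg.Agent.Helper23.SGF

open Module Cfsg.Agent.Helper8.FrobLin Cfsg.Agent.Helper8.HHLin

universe u v w

attribute [local instance] dualAct

/-- `s² ≡ 1 mod p^j` (`p` odd) and `s ≤ p^j - 1` force `s = 1` or `s = p^j - 1` -/
theorem arith_sq {p j s : ℕ} (hp : p.Prime) (hp2 : p ≠ 2) (hj : 1 ≤ j)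
    (hs : s ^ 2 ≡ 1 [MOD p ^ j]) (hle : s ≤ p ^ j - 1) : s = 1 ∨ s + 1 = p ^ j := by
  have hp1 : 1 < p := hp.one_lt
  have hpj : 1 < p ^ j := Nat.one_lt_pow (by omega) hp1
  rcases s with _ | s'
  · exfalso
    have h1 : (0 ^ 2) % (p ^ j) = 1 % (p ^ j) := hs
    rw [Nat.mod_eq_of_lt hpj] at h1
    simp at h1
  · have hdvd : p ^ j ∣ s' * (s' + 2) := by
      have h1 : p ^ j ∣ (s' + 1) ^ 2 - 1 :=
        (Nat.modEq_iff_dvd' (Nat.one_le_pow _ _ (Nat.succ_pos s'))).mp hs.symm
      have e : (s' + 1) ^ 2 - 1 = s' * (s' + 2) := by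
        have : (s' + 1) ^ 2 = s' * (s' + 2) + 1 := by ring
        omega
      rwa [e] at h1
    by_cases hps : p ∣ s'
    · have hps2 : ¬ p ∣ s' + 2 := by
        intro h2
        have h3 : p ∣ 2 := by
          have := Nat.dvd_sub h2 hps
          simpa using this
        exact hp2 ((Nat.prime_dvd_prime_iff_eq hp Nat.prime_two).mp h3)
      have hc : (p ^ j).Coprime (s' + 2) :=
        Nat.Coprime.pow_left j ((Nat.Prime.coprime_iff_not_dvd hp).mpr hps2)
      have h4 : p ^ j ∣ s' := hc.dvd_of_dvd_mul_right hdvd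
      left
      have h5 : s' = 0 := Nat.eq_zero_of_dvd_of_lt h4 (by omega)
      omega
    · have hc : (p ^ j).Coprime s' :=
        Nat.Coprime.pow_left j ((Nat.Prime.coprime_iff_not_dvd hp).mpr hps)
      have h4 : p ^ j ∣ s' + 2 := hc.dvd_of_dvd_mul_left hdvd
      right
      have h5 : p ^ j ≤ s' + 2 := Nat.le_of_dvd (by omega) h4
      omega

end Cfsg.Agent.Helper23.SGF
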