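import Mathlib
import Cfsg.Agent.Lib.SG3.SGFKDefs

/-! S3793 design (helper23), piece SGF-KCONG (see plans/S3793_plan.md, STAGE 2b). STUB. -/

set_option autoImplicit false
set_option linter.unusedSectionVars false

namespace Cfsg.Agent.Helper23.SGF

open Module Cfsg.Agent.Helper8.FrobLin Cfsg.Agent.Helper8.HHLin

universe u v w

attribute [local instance] dualAct

/-- `E` acts on `Q / R` with every non-trivial element fixed-point-free: `|Q / R| ≡ 1 mod |E|` -/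
theorem card_modEq_of_fpf {G : Type*} [Group G] [Finite G] (Q R E : Subgroup G) (hRQ : R ≤ Q)
    (hEQ : ∀ e ∈ E, ∀ g ∈ Q, e * g * e⁻¹ ∈ Q) (hER : ∀ e ∈ E, ∀ g ∈ R, e * g * e⁻¹ ∈ R)
    (hQR : ∀ a ∈ Q, ∀ g ∈ R, a * g * a⁻¹ ∈ R)
    (hfpf : ∀ e ∈ E, e ≠ 1 → ∀ m ∈ Q, e * m * e⁻¹ * m⁻¹ ∈ R → m ∈ R) :
    ∃ k : ℕ, Nat.card ↥Q = k * Nat.card ↥R ∧ k ≡ 1 [MOD Nat.card ↥E] := by
  classical
  let act : MulAction ↥E ↥Q :=
    { smul := fun e g => ⟨(e : G) * (g : G) * (e : G)⁻¹, hEQ e e.2 g g.2⟩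
      one_smul := fun g => Subtype.ext (by
        show ((1 : ↥E) : G) * (g : G) * ((1 : ↥E) : G)⁻¹ = g
        simp)
      mul_smul := fun a b g => Subtype.ext (by
        show ((a * b : ↥E) : G) * (g : G) * ((a * b : ↥E) : G)⁻¹ =
          (a : G) * ((b : G) * (g : G) * (b : G)⁻¹) * (a : G)⁻¹
        simp [mul_assoc]) }
  have hsmul : ∀ (e : ↥E) (g : ↥Q), ((e • g : ↥Q) : G) = (e : G) * g * (e : G)⁻¹ := fun _ _ => rfl
  have hqa : MulAction.QuotientAction ↥E (R.subgroupOf Q) := by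
    constructor
    intro e a a' h
    rw [Subgroup.mem_subgroupOf] at h ⊢
    have h1 := hER e e.2 _ h
    have e1 : (((e • a)⁻¹ * e • a' : ↥Q) : G) = (e : G) * ((a⁻¹ * a' : ↥Q) : G) * (e : G)⁻¹ := by
      rw [Subgroup.coe_mul, Subgroup.coe_inv, hsmul, hsmul, Subgroup.coe_mul, Subgroup.coe_inv]
      group
    rw [e1]
    exact h1
  have hfe : Fintype ↥E := Fintype.ofFinite ↥E
  have hfX : Fintype (↥Q ⧸ R.subgroupOf Q) := Fintype.ofFinite _
  have hB := MulAction.sum_card_fixedBy_eq_card_orbits_mul_card_group ↥E (↥Q ⧸ R.subgroupOf Q)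
  -- fixed points of a nontrivial element
  have hfix1 : ∀ e : ↥E, e ≠ 1 → ∀ x : ↥Q ⧸ R.subgroupOf Q, e • x = x → x = ((1 : ↥Q) : ↥Q ⧸ R.subgroupOf Q) := by
    intro e he x hx
    induction x using QuotientGroup.induction_on with
    | H m =>
      rw [MulAction.Quotient.smul_mk, QuotientGroup.eq, Subgroup.mem_subgroupOf] at hx
      have e1 : (((e • m)⁻¹ * m : ↥Q) : G) = (e : G) * (m : G)⁻¹ * (e : G)⁻¹ * ((m : G)⁻¹)⁻¹ := by
        rw [Subgroup.coe_mul, Subgroup.coe_inv, hsmul]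
        group
      rw [e1] at hx
      have he' : (e : G) ≠ 1 := fun h => he (Subtype.ext h)
      have h2 : (m : G)⁻¹ ∈ R := hfpf e e.2 he' _ (Q.inv_mem m.2) hx
      rw [QuotientGroup.eq, Subgroup.mem_subgroupOf, Subgroup.coe_mul, Subgroup.coe_inv,
        Subgroup.coe_one, mul_one]
      exact h2
  have hfix2 : ∀ e : ↥E, e • ((1 : ↥Q) : ↥Q ⧸ R.subgroupOf Q) = ((1 : ↥Q) : ↥Q ⧸ R.subgroupOf Q) := by
    intro e
    rw [MulAction.Quotient.smul_mk]
    congr 1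
    apply Subtype.ext
    rw [hsmul]
    simp
  have hcard1 : ∀ e : ↥E, e ≠ 1 →
      Fintype.card ↥(MulAction.fixedBy (↥Q ⧸ R.subgroupOf Q) e) = 1 := by
    intro e he
    rw [Fintype.card_eq_one_iff]
    refine ⟨⟨((1 : ↥Q) : ↥Q ⧸ R.subgroupOf Q), hfix2 e⟩, ?_⟩
    intro y
    exact Subtype.ext (hfix1 e he y.1 y.2)
  have hcard0 : Fintype.card ↥(MulAction.fixedBy (↥Q ⧸ R.subgroupOf Q) (1 : ↥E)) =
      Fintype.card (↥Q ⧸ R.subgroupOf Q) := by
    apply Fintype.card_congr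
    exact
      { toFun := fun x => x.1
        invFun := fun x => ⟨x, one_smul _ x⟩
        left_inv := fun x => rfl
        right_inv := fun x => rfl }
  have hsum : ∑ g : ↥E, Fintype.card ↥(MulAction.fixedBy (↥Q ⧸ R.subgroupOf Q) g) =
      Fintype.card (↥Q ⧸ R.subgroupOf Q) + (Fintype.card ↥E - 1) := by
    rw [← Finset.add_sum_erase Finset.univ _ (Finset.mem_univ (1 : ↥E)), hcard0]
    congr 1
    rw [Finset.sum_congr rfl (fun g hg => hcard1 g (Finset.ne_of_mem_erase hg)), Finset.sum_const,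
      Finset.card_erase_of_mem (Finset.mem_univ _), Finset.card_univ, smul_eq_mul, mul_one]
  rw [hsum] at hB
  refine ⟨Fintype.card (↥Q ⧸ R.subgroupOf Q), ?_, ?_⟩
  · have h1 := Subgroup.card_eq_card_quotient_mul_card_subgroup (R.subgroupOf Q)
    have h2 : Nat.card ↥(R.subgroupOf Q) = Nat.card ↥R :=
      Nat.card_congr (Subgroup.subgroupOfEquivOfLe hRQ).toEquiv
    rw [h2, Nat.card_eq_fintype_card (α := ↥Q ⧸ R.subgroupOf Q)] at h1
    exact h1
  · rw [Nat.card_eq_fintype_card]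
    have hpos : 0 < Fintype.card ↥E := Fintype.card_pos
    have h3 : Fintype.card (↥Q ⧸ R.subgroupOf Q) + Fintype.card ↥E =
        1 + Fintype.card (Quotient (MulAction.orbitRel ↥E (↥Q ⧸ R.subgroupOf Q))) * Fintype.card ↥E := by
      omega
    show Fintype.card (↥Q ⧸ R.subgroupOf Q) % Fintype.card ↥E = 1 % Fintype.card ↥E
    rw [← Nat.add_mod_right, h3, Nat.add_mul_mod_self_right]

end Cfsg.Agent.Helper23.SGF
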