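import Mathlib
import Cfsg.Agent.Lib.SG3.SGFKDefs
import Cfsg.Agent.Lib.SG3.SGFKRAD
import Cfsg.Agent.S0022
/-! S3793 design (helper23), piece SGF-KFPFR (see plans/S3793_plan.md, STAGE 2b). STUB. -/

set_option autoImplicit false
set_option linter.unusedSectionVars false

namespace Cfsg.Agent.Helper23.SGF

open Module Cfsg.Agent.Helper8.FrobLin Cfsg.Agent.Helper8.HHLin

universe u v w

attribute [local instance] dualAct

variable {F : Type w} [Field F] [IsAlgClosed F] {Γ : Type u} [Group Γ] [Finite Γ]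
  {V : Type v} [AddCommGroup V] [Module F V] [FiniteDimensional F V]
  {ρ : Representation F Γ V} {Q : Subgroup Γ} [Q.Normal] {A X : Subgroup Γ} {p q : ℕ}

/-- a non-trivial element `e` of `A` fixing `χ` acts fixed-point-freely on `Q / R_χ`
(coprime action: fixed points lift, and `C_Q(e) ≤ Z ≤ R_χ`) -/
theorem inRad_of_comm_inRad (T : Tight ρ Q A X p q) (χ : KW ρ Q) (e : Γ) (he : e ∈ A)
    (he1 : e ≠ 1) (heχ : e • χ = χ) (m : Γ) (hm : m ∈ Q)
    (h : InRad ρ Q χ (e * m * e⁻¹ * m⁻¹)) : InRad ρ Q χ m := by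
  obtain ⟨R, hR, hZR, hRQ, hnQ, hnA⟩ := exists_rad T χ
  have hpF : Fact p.Prime := ⟨T.hp⟩
  have hqF : Fact q.Prime := ⟨T.hq⟩
  -- normaliser bookkeeping
  have hnorm : ∀ K : Subgroup Γ, (∀ a ∈ K, ∀ g ∈ R, a * g * a⁻¹ ∈ R) →
      K ≤ Subgroup.normalizer (R : Set Γ) := by
    intro K hK a ha
    rw [Subgroup.mem_normalizer_iff]
    intro g
    constructor
    · exact hK a ha g
    · intro hg
      have h1 := hK a⁻¹ (K.inv_mem ha) _ hg
      have e1 : a⁻¹ * (a * g * a⁻¹) * a⁻¹⁻¹ = g := by group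
      rw [e1] at h1
      exact h1
  have hEA : Subgroup.zpowers e ≤ A := (Subgroup.zpowers_le).mpr he
  have hEstab : Subgroup.zpowers e ≤ MulAction.stabilizer Γ χ :=
    (Subgroup.zpowers_le).mpr (MulAction.mem_stabilizer_iff.mpr heχ)
  have hQN : Q ≤ Subgroup.normalizer (R : Set Γ) := hnorm Q hnQ
  have hEN : Subgroup.zpowers e ≤ Subgroup.normalizer (R : Set Γ) := by
    apply hnorm
    intro b hb g hg
    exact hnA b (hEA hb) (MulAction.mem_stabilizer_iff.mp (hEstab hb)) g hg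
  have hEQ : Subgroup.zpowers e ≤ Subgroup.normalizer (Q : Set Γ) := by
    rw [Subgroup.normalizer_eq_top_iff.2 (inferInstance : Q.Normal)]
    exact le_top
  -- coprimality
  have hcop : (Nat.card ↥(Subgroup.zpowers e)).Coprime (Nat.card ↥Q) := by
    obtain ⟨k, hk⟩ := (IsPGroup.iff_card (p := p) (G := ↥A)).mp T.hA
    obtain ⟨l, hl⟩ := (IsPGroup.iff_card (p := q) (G := ↥Q)).mp T.hQ
    have hd : Nat.card ↥(Subgroup.zpowers e) ∣ p ^ k := by
      rw [← hk]
      exact Subgroup.card_dvd_of_le hEA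
    rw [hl]
    apply Nat.Coprime.coprime_dvd_left hd
    exact Nat.Coprime.pow k l ((Nat.coprime_primes T.hp T.hq).mpr T.hpq)
  have hsolv : Group.IsSolvable ↥(Subgroup.zpowers e) := by
    apply isSolvable_of_comm
    rintro ⟨a, ha⟩ ⟨b, hb⟩
    rw [Subgroup.mem_zpowers_iff] at ha hb
    obtain ⟨i, rfl⟩ := ha
    obtain ⟨j, rfl⟩ := hb
    apply Subtype.ext
    exact zpow_mul_comm e i j
  -- the elements `a` normalising `R` with `⁅a, m⁆ ∈ R` form a subgroup
  let S : Subgroup Γ :=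
    { carrier := {a | a ∈ Subgroup.normalizer (R : Set Γ) ∧ a * m * a⁻¹ * m⁻¹ ∈ R}
      one_mem' := by
        refine ⟨Subgroup.one_mem _, ?_⟩
        have e1 : (1 : Γ) * m * 1⁻¹ * m⁻¹ = 1 := by group
        rw [e1]
        exact R.one_mem
      mul_mem' := by
        rintro a b ⟨ha, ha'⟩ ⟨hb, hb'⟩
        refine ⟨Subgroup.mul_mem _ ha hb, ?_⟩
        have h1 : a * (b * m * b⁻¹ * m⁻¹) * a⁻¹ ∈ R :=
          (Subgroup.mem_normalizer_iff.mp ha _).mp hb'
        have e1 : a * b * m * (a * b)⁻¹ * m⁻¹ =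
            a * (b * m * b⁻¹ * m⁻¹) * a⁻¹ * (a * m * a⁻¹ * m⁻¹) := by group
        rw [e1]
        exact R.mul_mem h1 ha'
      inv_mem' := by
        rintro a ⟨ha, ha'⟩
        refine ⟨Subgroup.inv_mem _ ha, ?_⟩
        have h1 := (Subgroup.mem_normalizer_iff.mp (Subgroup.inv_mem _ ha) _).mp (R.inv_mem ha')
        have e1 : a⁻¹ * m * a⁻¹⁻¹ * m⁻¹ = a⁻¹ * (a * m * a⁻¹ * m⁻¹)⁻¹ * a⁻¹⁻¹ := by group
        rw [e1]
        exact h1 }
  have hES : Subgroup.zpowers e ≤ S := by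
    rw [Subgroup.zpowers_le]
    exact ⟨hEN (Subgroup.mem_zpowers e), (hR _).mpr h⟩
  have hfix : ∀ a ∈ Subgroup.zpowers e, a * m * a⁻¹ * m⁻¹ ∈ R := fun a ha => (hES ha).2
  obtain ⟨c, hc, hmc⟩ := Cfsg.Agent.S0022.result (Subgroup.zpowers e) Q hEQ hcop (Or.inl hsolv)
    R hRQ hQN hEN m hm hfix
  have hcQ : c ∈ Q := hc.1
  have hce : e * c = c * e :=
    (Subgroup.mem_centralizer_iff.mp hc.2) e (Subgroup.mem_zpowers e)
  have hcZ : c ∈ KZ ρ Q := by
    apply T.hfpfA e he he1 c hcQ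
    have e1 : e * c * e⁻¹ * c⁻¹ = 1 := by
      rw [hce]
      group
    rw [e1]
    exact Subgroup.one_mem _
  have hcR : c ∈ R := hZR hcZ
  have hmR : m ∈ R := by
    have e1 : m = c * (m⁻¹ * c)⁻¹ := by group
    rw [e1]
    exact R.mul_mem hcR (R.inv_mem hmc)
  exact (hR m).mp hmR

end Cfsg.Agent.Helper23.SGF
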