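import Mathlib
import Cfsg.Agent.Lib.SG3.SGFKDefs
import Cfsg.Agent.Lib.SG3.SGFKSTAB
import Cfsg.Agent.Lib.SG3.SGFKRAD
import Cfsg.Agent.Lib.SG3.SGFKFPFR
import Cfsg.Agent.Lib.SG3.SGFKHHL
/-! S3793 design (helper23), piece SGF-KLOC0 (see plans/S3793_plan.md, STAGE 2b); implemented by helper11. -/

set_option autoImplicit false
set_option linter.unusedSectionVars false

namespace Cfsg.Agent.Helper23.SGF

open Module Cfsg.Agent.Helper8.FrobLin Cfsg.Agent.Helper8.HHLin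

universe u v w

attribute [local instance] dualAct

variable {F : Type w} [Field F] [IsAlgClosed F] {Γ : Type u} [Group Γ] [Finite Γ]
  {V : Type v} [AddCommGroup V] [Module F V] [FiniteDimensional F V]
  {ρ : Representation F Γ V} {Q : Subgroup Γ} [Q.Normal] {A X : Subgroup Γ} {p q : ℕ}

/-- the local analysis on the weight space of an occurring weight `χ` (restriction of `ρ` to the
stabiliser of `χ` in `Γ` acting on `range (KP ρ Q χ)`, then `hh_local`) -/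
theorem tight_local0 (T : Tight ρ Q A X p q) (χ : KW ρ Q) (hχ : KP ρ Q χ ≠ 0) :
    ∃ (R B' : Subgroup Γ) (s : ℕ), (∀ g, g ∈ R ↔ InRad ρ Q χ g) ∧ B' ≤ A ∧ B' ≠ ⊥ ∧
      (∀ b ∈ B', b • χ = χ) ∧ Nat.card ↥Q = s ^ 2 * Nat.card ↥R ∧ s ≤ Nat.card ↥B' - 1 := by
  classical
  letI instZ : Fintype ↥(KZ ρ Q) := Fintype.ofFinite _
  haveI : Fact q.Prime := ⟨T.hq⟩
  haveI : Fact p.Prime := ⟨T.hp⟩
  -- characteristic conditions
  obtain ⟨l, hl⟩ := IsPGroup.exists_card_eq T.hQ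
  obtain ⟨kA, hkA⟩ := IsPGroup.exists_card_eq T.hA
  have hcharQ : (Nat.card ↥Q : F) ≠ 0 := by
    rw [hl]; push_cast; exact pow_ne_zero _ T.hqF
  have hcharA : (Nat.card ↥A : F) ≠ 0 := by
    rw [hkA]; push_cast; exact pow_ne_zero _ T.hpF
  have hchar_of_dvd : ∀ {a b : ℕ}, a ∣ b → (b : F) ≠ 0 → (a : F) ≠ 0 := by
    rintro a b ⟨c, rfl⟩ hb h0
    apply hb
    rw [Nat.cast_mul, h0, zero_mul]
  have hcharZ : (Nat.card ↥(KZ ρ Q) : F) ≠ 0 :=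
    hchar_of_dvd (Subgroup.card_dvd_of_le (relCenter_le _ _)) hcharQ
  -- the stabiliser and the weight space
  set H₁ : Subgroup Γ := MulAction.stabilizer Γ χ with hH₁
  have hQH : Q ≤ H₁ := fun g hg =>
    MulAction.mem_stabilizer_iff.mpr (central_smul Q (KN ρ Q) hg χ)
  set W : Submodule F V := LinearMap.range (KP ρ Q χ) with hW
  have hinv : ∀ g : ↥H₁, W ≤ W.comap ((ρ.comp H₁.subtype) g) := by
    intro g
    exact range_wproj_le_comap ρ (KZ ρ Q) (KN ρ Q) χ (g : Γ)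
      (MulAction.mem_stabilizer_iff.mp g.2)
  set ρ₁ : Representation F ↥H₁ ↥W :=
    Representation.subrepresentation (ρ.comp H₁.subtype : Representation F ↥H₁ V) W hinv with hρ₁
  have hρ₁app : ∀ (g : ↥H₁) (w : ↥W), ((ρ₁ g w : ↥W) : V) = ρ (g : Γ) (w : V) := fun g w => rfl
  set Q₁ : Subgroup ↥H₁ := Q.subgroupOf H₁ with hQ₁
  set B : Subgroup Γ := A ⊓ H₁ with hB
  set B₁ : Subgroup ↥H₁ := B.subgroupOf H₁ with hB₁
  haveI hQ₁n : Q₁.Normal := Subgroup.normal_subgroupOf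
  -- hypotheses of `hh_local`
  have hWpos : 0 < finrank F ↥W := by
    rw [Module.finrank_pos_iff_exists_ne_zero]
    by_contra hcon
    push Not at hcon
    apply hχ
    apply LinearMap.ext
    intro v
    have h1 := hcon ⟨KP ρ Q χ v, ⟨v, rfl⟩⟩
    exact congrArg Subtype.val h1
  have hab₁ : ∀ a ∈ B₁, ∀ b ∈ B₁, a * b = b * a := by
    intro a ha b hb
    have haA : (a : Γ) ∈ A := (Subgroup.mem_subgroupOf.mp ha).1
    have hbA : (b : Γ) ∈ A := (Subgroup.mem_subgroupOf.mp hb).1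
    haveI := T.hAc
    have h1 := (IsCyclic.isMulCommutative (α := ↥A)).is_comm.comm ⟨(a : Γ), haA⟩ ⟨(b : Γ), hbA⟩
    have h2 : (a : Γ) * (b : Γ) = (b : Γ) * (a : Γ) := congrArg Subtype.val h1
    apply Subtype.ext
    exact h2
  have hcardQ₁ : Nat.card ↥Q₁ = Nat.card ↥Q :=
    Nat.card_congr (Subgroup.subgroupOfEquivOfLe hQH).toEquiv
  have hcardB₁ : Nat.card ↥B₁ = Nat.card ↥B :=
    Nat.card_congr (Subgroup.subgroupOfEquivOfLe (inf_le_right : B ≤ H₁)).toEquiv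
  have hcharQ₁ : (Nat.card ↥Q₁ : F) ≠ 0 := by rw [hcardQ₁]; exact hcharQ
  have hcharB₁ : (Nat.card ↥B₁ : F) ≠ 0 := by
    rw [hcardB₁]
    exact hchar_of_dvd (Subgroup.card_dvd_of_le (inf_le_left : B ≤ A)) hcharA
  have hfix₁ : fixedBy ρ₁ B₁ = ⊥ := by
    rw [eq_bot_iff]
    intro w hw
    rw [mem_fixedBy] at hw
    rw [Submodule.mem_bot]
    apply Subtype.ext
    have hwW : (w : V) ∈ LinearMap.range (wproj ρ (KZ ρ Q) (KN ρ Q) χ) := w.2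
    refine stab_fixed_eq_zero ρ (KZ ρ Q) (KN ρ Q) A T.hfix hcharZ hcharA χ (w : V) hwW ?_
    intro a ha haχ
    have haH : a ∈ H₁ := MulAction.mem_stabilizer_iff.mpr haχ
    have h1 := hw ⟨a, haH⟩ (Subgroup.mem_subgroupOf.mpr ⟨ha, haH⟩)
    exact congrArg Subtype.val h1
  have hscal : ∀ g ∈ Q₁, ∀ h ∈ Q₁, ∃ c : F,
      ρ₁ (g * h * g⁻¹ * h⁻¹) = c • (1 : ↥W →ₗ[F] ↥W) := by
    intro g hg h hh
    have hgQ : (g : Γ) ∈ Q := Subgroup.mem_subgroupOf.mp hg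
    have hhQ : (h : Γ) ∈ Q := Subgroup.mem_subgroupOf.mp hh
    have hz : (g : Γ) * (h : Γ) * (g : Γ)⁻¹ * (h : Γ)⁻¹ ∈ KZ ρ Q := T.hQZ _ hgQ _ hhQ
    refine ⟨((χ (QuotientGroup.mk ⟨_, hz⟩) : Fˣ) : F), ?_⟩
    apply LinearMap.ext
    intro w
    apply Subtype.ext
    obtain ⟨v, hv⟩ := w.2
    have h1 := wproj_act ρ (KZ ρ Q) (KN ρ Q) χ ⟨_, hz⟩ v
    have hv' : wproj ρ (KZ ρ Q) (KN ρ Q) χ v = (w : V) := hv
    rw [hv'] at h1
    rw [hρ₁app]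
    exact h1
  have htrans : ∀ g₁ : ↥H₁, g₁ ∈ relCenter Q₁ (kerIn ρ₁ Q₁) ↔ InRad ρ Q χ (g₁ : Γ) := by
    intro g₁
    rw [mem_relCenter]
    unfold InRad
    constructor
    · rintro ⟨hg, h⟩
      refine ⟨Subgroup.mem_subgroupOf.mp hg, fun u hu w hw => ?_⟩
      have hu1 : (⟨u, hQH hu⟩ : ↥H₁) ∈ Q₁ := Subgroup.mem_subgroupOf.mpr hu
      have h2 := (mem_kerIn ρ₁).mp (h _ hu1)
      have h3 := congrArg (fun f : ↥W →ₗ[F] ↥W => ((f ⟨w, hw⟩ : ↥W) : V)) h2.2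
      exact h3
    · rintro ⟨hg, h⟩
      have hg' : g₁ ∈ Q₁ := Subgroup.mem_subgroupOf.mpr hg
      refine ⟨hg', fun u hu => ?_⟩
      rw [mem_kerIn]
      refine ⟨Q₁.mul_mem (Q₁.mul_mem (Q₁.mul_mem hg' hu) (Q₁.inv_mem hg')) (Q₁.inv_mem hu), ?_⟩
      apply LinearMap.ext
      intro w
      apply Subtype.ext
      exact h (u : Γ) (Subgroup.mem_subgroupOf.mp hu) (w : V) w.2
  have hfpf₁ : ∀ e ∈ B₁, e ≠ 1 → ∀ m ∈ Q₁,
      e * m * e⁻¹ * m⁻¹ ∈ relCenter Q₁ (kerIn ρ₁ Q₁) → m ∈ relCenter Q₁ (kerIn ρ₁ Q₁) := by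
    intro e he he1 m hm h
    rw [htrans] at h ⊢
    have heB : (e : Γ) ∈ B := Subgroup.mem_subgroupOf.mp he
    exact inRad_of_comm_inRad T χ (e : Γ) heB.1 (fun h1 => he1 (Subtype.ext h1))
      (MulAction.mem_stabilizer_iff.mp e.2) (m : Γ) (Subgroup.mem_subgroupOf.mp hm) h
  obtain ⟨B'₁, s, hB'le, hB'ne, hcard, hs⟩ :=
    hh_local ρ₁ Q₁ B₁ hWpos hab₁ hcharQ₁ hcharB₁ hfix₁ hscal hfpf₁
  have hinj : Function.Injective H₁.subtype := H₁.subtype_injective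
  refine ⟨(relCenter Q₁ (kerIn ρ₁ Q₁)).map H₁.subtype, B'₁.map H₁.subtype, s, ?_, ?_, ?_, ?_, ?_, ?_⟩
  · intro g
    constructor
    · rintro ⟨g₁, hg₁, rfl⟩
      exact (htrans g₁).mp hg₁
    · intro h
      have hgH : g ∈ H₁ := hQH h.1
      exact ⟨⟨g, hgH⟩, (htrans _).mpr h, rfl⟩
  · rintro _ ⟨b, hb, rfl⟩
    exact (Subgroup.mem_subgroupOf.mp (hB'le hb)).1
  · intro h
    apply hB'ne
    exact (Subgroup.map_eq_bot_iff_of_injective _ hinj).mp h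
  · rintro _ ⟨b, hb, rfl⟩
    exact MulAction.mem_stabilizer_iff.mp b.2
  · rw [Subgroup.card_map_of_injective hinj, ← hcardQ₁]
    exact hcard
  · rw [Subgroup.card_map_of_injective hinj]
    exact hs

end Cfsg.Agent.Helper23.SGF
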