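import Mathlib
import Cfsg.Agent.Lib.SG3.SGFKDefs
import Cfsg.Agent.Lib.SG3.SGFKRAD
import Cfsg.Agent.Lib.SG3.SGFKFPFR
import Cfsg.Agent.Lib.SG3.SGFKLOC0
import Cfsg.Agent.Lib.SG3.SGFKCONG
import Cfsg.Agent.Lib.SG3.SGFKAR1

/-! S3793 design (helper23): `tight_local` (assembly of KLOC0, KRAD, KFPFR, KCONG, KAR1). -/

set_option autoImplicit false
set_option linter.unusedSectionVars false

namespace Cfsg.Agent.Helper23.SGF

open Module Cfsg.Agent.Helper8.FrobLin Cfsg.Agent.Helper8.HHLin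

universe u v w

attribute [local instance] dualAct

variable {F : Type w} [Field F] [IsAlgClosed F] {Γ : Type u} [Group Γ] [Finite Γ]
  {V : Type v} [AddCommGroup V] [Module F V] [FiniteDimensional F V]
  {ρ : Representation F Γ V} {Q : Subgroup Γ} [Q.Normal] {A X : Subgroup Γ} {p q : ℕ}

/-- for an occurring weight `χ`: `|Q : R_χ| = s²` with `s = 1` or `s + 1 = p^j = |B'|` for a
non-trivial subgroup `B'` of the stabiliser of `χ` in `A` -/
theorem tight_local (T : Tight ρ Q A X p q) (χ : KW ρ Q) (hχ : KP ρ Q χ ≠ 0) :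
    ∃ (R : Subgroup Γ) (s j : ℕ), (∀ g, g ∈ R ↔ InRad ρ Q χ g) ∧
      Nat.card ↥Q = s ^ 2 * Nat.card ↥R ∧
      (s = 1 ∨ (1 ≤ j ∧ s + 1 = p ^ j ∧
        ∃ B' : Subgroup Γ, B' ≤ A ∧ Nat.card ↥B' = p ^ j ∧ ∀ b ∈ B', b • χ = χ)) := by
  obtain ⟨R, B', s, hR, hB'A, hB'ne, hB'χ, hcard, hsle⟩ := tight_local0 T χ hχ
  obtain ⟨R', hR', hZR', hR'Q, hQR', hBR'⟩ := exists_rad T χ
  have hRR' : R' = R := by
    ext g
    rw [hR, hR']
  rw [hRR'] at hZR' hR'Q hQR' hBR'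
  haveI : Fact p.Prime := ⟨T.hp⟩
  obtain ⟨j, hj⟩ := (T.hA.to_le hB'A).exists_card_eq
  have hj1 : 1 ≤ j := by
    by_contra hcon
    have hj0 : j = 0 := by omega
    rw [hj0, pow_zero] at hj
    exact hB'ne (Subgroup.card_eq_one.mp hj)
  obtain ⟨k, hk, hkmod⟩ := card_modEq_of_fpf Q R B' hR'Q
    (fun e _ g hg => (inferInstance : Q.Normal).conj_mem g hg e)
    (fun e he g hg => hBR' e (hB'A he) (hB'χ e he) g hg) hQR'
    (fun e he he1 m hm h => (hR m).mpr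
      (inRad_of_comm_inRad T χ e (hB'A he) he1 (hB'χ e he) m hm ((hR _).mp h)))
  have hRpos : 0 < Nat.card ↥R := Nat.card_pos
  have hks : k = s ^ 2 := Nat.eq_of_mul_eq_mul_right hRpos (hk.symm.trans hcard)
  rw [hks, hj] at hkmod
  rcases arith_sq T.hp T.hp2 hj1 hkmod (by rw [← hj]; exact hsle) with h | h
  · exact ⟨R, s, j, hR, hcard, Or.inl h⟩
  · exact ⟨R, s, j, hR, hcard, Or.inr ⟨hj1, h, B', hB'A, hj, hB'χ⟩⟩

end Cfsg.Agent.Helper23.SGF
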