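import Mathlib
import Cfsg.Agent.Lib.SG3.SGFKDefs
import Cfsg.Agent.Lib.SG3.SGFKLOC
import Cfsg.Agent.Lib.SG3.SGFKRADI

/-! S3793 design (helper23): `tight_odd` (assembly): `q` odd is impossible. -/

set_option autoImplicit false
set_option linter.unusedSectionVars false

namespace Cfsg.Agent.Helper23.SGF

open Module Cfsg.Agent.Helper8.FrobLin Cfsg.Agent.Helper8.HHLin

universe u v w

attribute [local instance] dualAct

variable {F : Type w} [Field F] [IsAlgClosed F] {Γ : Type u} [Group Γ] [Finite Γ]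
  {V : Type v} [AddCommGroup V] [Module F V] [FiniteDimensional F V]
  {ρ : Representation F Γ V} {Q : Subgroup Γ} [Q.Normal] {A X : Subgroup Γ} {p q : ℕ}

theorem tight_odd (T : Tight ρ Q A X p q) (hq2 : q ≠ 2) : False := by
  apply not_all_inRad T
  intro χ hχ g hg
  obtain ⟨R, s, j, hR, hcard, hs⟩ := tight_local T χ hχ
  have hs1 : s = 1 := by
    rcases hs with h | ⟨hj1, hsj, _⟩
    · exact h
    · exfalso
      haveI : Fact q.Prime := ⟨T.hq⟩
      obtain ⟨a, ha⟩ := T.hQ.exists_card_eq
      have hsd : s ∣ q ^ a := by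
        rw [← ha, hcard]
        exact Dvd.intro (s * Nat.card ↥R) (by ring)
      obtain ⟨c, _, hsc⟩ := (Nat.dvd_prime_pow T.hq).mp hsd
      have hqodd : Odd q := T.hq.odd_of_ne_two hq2
      have hsodd : Odd s := by rw [hsc]; exact hqodd.pow
      have hpodd : Odd p := T.hp.odd_of_ne_two T.hp2
      have h1 : Odd (s + 1) := by rw [hsj]; exact hpodd.pow
      have h2 : Even (s + 1) := hsodd.add_one
      exact (Nat.not_even_iff_odd.mpr h1) h2
  rw [hs1, one_pow, one_mul] at hcard
  have hRQ : R ≤ Q := fun g hg => ((hR g).mp hg).1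
  have hRQe : R = Q := Subgroup.eq_of_le_of_card_ge hRQ (by rw [hcard])
  exact (hR g).mp (by rw [hRQe]; exact hg)

end Cfsg.Agent.Helper23.SGF
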