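import Mathlib
import Cfsg.Agent.Lib.SG3.SGFKDefs

/-! S3793 design (helper23), piece SGF-KAR2 (see plans/S3793_plan.md, STAGE 2b).  Proved by helper8:
the order of `2` modulo `2^b + 1` is `2 b` (`sgf_kar2_order`, `sgf_kar2_dvd`), then lifting the exponent
(`padicValNat.pow_sub_pow`) for `x = 2^(2b)`, `x - 1 = p^j (p^j - 2)`. -/

set_option autoImplicit false
set_option linter.unusedSectionVars false

namespace Cfsg.Agent.Helper23.SGF

open Module Cfsg.Agent.Helper8.FrobLin Cfsg.Agent.Helper8.HHLin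

universe u v w

attribute [local instance] dualAct

/-- no `r` with `0 < r < 2 b` has `2^b + 1 ∣ 2^r - 1` -/
theorem sgf_kar2_order {b r : ℕ} (hr : r < 2 * b) (hd : 2 ^ b + 1 ∣ 2 ^ r - 1) : r = 0 := by
  by_contra hne
  have hr1 : 1 ≤ r := Nat.one_le_iff_ne_zero.mpr hne
  rcases le_or_gt r b with hrb | hrb
  · have h1 : 2 ^ r ≤ 2 ^ b := Nat.pow_le_pow_right (by norm_num) hrb
    have h2 : 2 ≤ 2 ^ r := by
      calc 2 = 2 ^ 1 := by norm_num
        _ ≤ 2 ^ r := Nat.pow_le_pow_right (by norm_num) hr1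
    have h3 := Nat.le_of_dvd (by omega) hd
    omega
  · obtain ⟨i, rfl⟩ : ∃ i, r = b + i := ⟨r - b, by omega⟩
    have hi1 : 1 ≤ i := by omega
    have hi2 : i < b := by omega
    have h1 : 2 ^ b + 1 ∣ (2 ^ b + 1) * 2 ^ i := dvd_mul_right _ _
    have h2 : (2 ^ b + 1) * 2 ^ i = 2 ^ (b + i) + 2 ^ i := by rw [pow_add]; ring
    have h3 : 2 ^ b + 1 ∣ 2 ^ i + 1 := by
      have h4 : 2 ^ i + 1 = (2 ^ (b + i) + 2 ^ i) - (2 ^ (b + i) - 1) := by
        have h7 : 1 ≤ 2 ^ (b + i) := Nat.one_le_two_pow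
        generalize 2 ^ (b + i) = A at h7 ⊢
        generalize 2 ^ i = B
        omega
      rw [h4, ← h2]
      exact Nat.dvd_sub h1 hd
    have h5 : 2 ^ i < 2 ^ b := Nat.pow_lt_pow_right (by norm_num) hi2
    have h6 := Nat.le_of_dvd (by positivity) h3
    omega

/-- `2^(2b) - 1 = (2^b + 1) (2^b - 1)` -/
theorem sgf_kar2_factor (b : ℕ) : 2 ^ (2 * b) - 1 = (2 ^ b + 1) * (2 ^ b - 1) := by
  have h7 : 1 ≤ 2 ^ b := Nat.one_le_two_pow
  rw [two_mul, pow_add]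
  generalize 2 ^ b = A at h7 ⊢
  obtain ⟨c, rfl⟩ : ∃ c, A = c + 1 := ⟨A - 1, by omega⟩
  have e : (c + 1) * (c + 1) = (c + 1 + 1) * c + 1 := by ring
  rw [e, Nat.add_sub_cancel, Nat.add_sub_cancel]

/-- the order of `2` modulo `2^b + 1` is `2 b` -/
theorem sgf_kar2_dvd {b t : ℕ} (hb : 1 ≤ b) (hd : 2 ^ b + 1 ∣ 2 ^ t - 1) : 2 * b ∣ t := by
  have hN : 2 ^ (2 * b) ≡ 1 [MOD 2 ^ b + 1] := by
    have h1 : 2 ^ b + 1 ∣ 2 ^ (2 * b) - 1 := by
      rw [sgf_kar2_factor]; exact dvd_mul_right _ _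
    exact ((Nat.modEq_iff_dvd' Nat.one_le_two_pow).mpr h1).symm
  obtain ⟨u, r, hr, ht⟩ : ∃ u r, r < 2 * b ∧ t = 2 * b * u + r :=
    ⟨t / (2 * b), t % (2 * b), Nat.mod_lt _ (by omega), (Nat.div_add_mod _ _).symm⟩
  subst ht
  have h2 : 2 ^ (2 * b * u + r) ≡ 2 ^ r [MOD 2 ^ b + 1] := by
    have e : 2 ^ (2 * b * u + r) = (2 ^ (2 * b)) ^ u * 2 ^ r := by rw [pow_add, pow_mul]
    rw [e]
    have h3 := (hN.pow u).mul_right (2 ^ r)
    rwa [one_pow, one_mul] at h3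
  have h3 : 1 ≡ 2 ^ (2 * b * u + r) [MOD 2 ^ b + 1] :=
    (Nat.modEq_iff_dvd' Nat.one_le_two_pow).mpr hd
  have h4 : 2 ^ b + 1 ∣ 2 ^ r - 1 := (Nat.modEq_iff_dvd' Nat.one_le_two_pow).mp (h3.trans h2)
  have h5 := sgf_kar2_order hr h4
  rw [h5, add_zero]
  exact dvd_mul_right _ _

/-- THE ARITHMETIC OF THE KILL: `2^b + 1 = p^j`, `m p^j ≤ p^n`, `0 < t ≤ 2 b (m - 1)`:
then `p^n ∤ 2^t - 1` (the order of `2` modulo `p^n` is `2 b p^(n-j)`, lifting the exponent) -/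
theorem arith_kill {p n j b m t : ℕ} (hp : p.Prime) (hp2 : p ≠ 2) (hj : 1 ≤ j)
    (hb : 2 ^ b + 1 = p ^ j) (hm : m * p ^ j ≤ p ^ n) (ht0 : 0 < t)
    (ht : t ≤ 2 * b * (m - 1)) (hdvd : p ^ n ∣ 2 ^ t - 1) : False := by
  have hpF : Fact p.Prime := ⟨hp⟩
  have hpodd : Odd p := hp.odd_of_ne_two hp2
  have hp2' : ¬ p ∣ 2 := fun h => hp2 ((Nat.prime_dvd_prime_iff_eq hp Nat.prime_two).mp h)
  -- `b ≥ 1`
  have hb1 : 1 ≤ b := by
    by_contra h0
    have hb0 : b = 0 := by omega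
    rw [hb0] at hb
    have h1 : p ∣ p ^ j := dvd_pow_self p (by omega)
    rw [← hb] at h1
    exact hp2' (by simpa using h1)
  -- `m ≥ 2`
  have hm2 : 2 ≤ m := by
    by_contra h
    have h1 : m - 1 = 0 := by omega
    rw [h1, mul_zero] at ht
    omega
  -- `2 b ∣ t`
  have hN : p ^ j ∣ 2 ^ t - 1 := by
    have h1 : p ^ j ≤ p ^ n := le_trans (Nat.le_mul_of_pos_left _ (by omega)) hm
    exact (pow_dvd_pow p ((Nat.pow_le_pow_iff_right hp.one_lt).mp h1)).trans hdvd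
  rw [← hb] at hN
  obtain ⟨u, rfl⟩ := sgf_kar2_dvd hb1 hN
  have hu0 : u ≠ 0 := by
    rintro rfl
    simp at ht0
  -- lifting the exponent for `x = 2^(2b)`
  have hx1 : 1 < 2 ^ (2 * b) := Nat.one_lt_two_pow (by omega)
  have hxm : 2 ^ (2 * b) - 1 = p ^ j * (p ^ j - 2) := by
    rw [sgf_kar2_factor, hb]
    congr 1
    omega
  have hpx : p ∣ 2 ^ (2 * b) - 1 := by
    rw [hxm]; exact (dvd_pow_self p (by omega)).mul_right _
  have hpnx : ¬ p ∣ 2 ^ (2 * b) := fun h => hp2' (hp.dvd_of_dvd_pow h)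
  have hlte := padicValNat.pow_sub_pow hpodd hx1 hpx hpnx hu0
  rw [one_pow, ← pow_mul] at hlte
  -- the valuation of `x - 1` is `j`
  have hpj3 : 3 ≤ p ^ j := by
    have h1 : 2 ≤ 2 ^ b := by
      calc 2 = 2 ^ 1 := by norm_num
        _ ≤ 2 ^ b := Nat.pow_le_pow_right (by norm_num) hb1
    omega
  have hval : padicValNat p (2 ^ (2 * b) - 1) = j := by
    rw [hxm, padicValNat.mul (by positivity) (by omega), padicValNat.prime_pow]
    have h1 : ¬ p ∣ p ^ j - 2 := by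
      intro h
      have h2 : p ∣ p ^ j := dvd_pow_self p (by omega)
      have h3 : p ∣ p ^ j - (p ^ j - 2) := Nat.dvd_sub h2 h
      have h4 : p ^ j - (p ^ j - 2) = 2 := by omega
      rw [h4] at h3
      exact hp2' h3
    rw [padicValNat.eq_zero_of_not_dvd h1, add_zero]
  rw [hval] at hlte
  -- `n ≤ j + v_p(u)`
  have hne : 2 ^ (2 * b * u) - 1 ≠ 0 := by
    have h1 : 1 < 2 ^ (2 * b * u) := Nat.one_lt_two_pow (by positivity)
    omega
  have hn := (padicValNat_dvd_iff_le hne).mp hdvd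
  rw [hlte] at hn
  -- `m ≤ p ^ v_p(u) ≤ u`
  have h1 : m * p ^ j ≤ p ^ j * p ^ padicValNat p u := by
    rw [← pow_add]
    exact le_trans hm (Nat.pow_le_pow_right hp.pos hn)
  have h2 : m ≤ p ^ padicValNat p u := by
    rw [mul_comm] at h1
    exact Nat.le_of_mul_le_mul_left h1 (by positivity)
  have h3 : p ^ padicValNat p u ≤ u :=
    Nat.le_of_dvd (Nat.pos_of_ne_zero hu0) pow_padicValNat_dvd
  have h4 : m ≤ u := le_trans h2 h3
  -- contradiction with `t ≤ 2 b (m - 1)`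
  have h5 : 2 * b * m ≤ 2 * b * u := Nat.mul_le_mul_left _ h4
  have h6 : 2 * b * (m - 1) + 2 * b = 2 * b * m := by
    obtain ⟨m', rfl⟩ : ∃ m', m = m' + 1 := ⟨m - 1, by omega⟩
    simp only [Nat.add_sub_cancel]
    ring
  omega

end Cfsg.Agent.Helper23.SGF
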