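import Mathlib
import Cfsg.Agent.Lib.SG3.SGFKDefs

/-! S3793 design (helper23), piece SGF-KIDX (see plans/S3793_plan.md, STAGE 2b). STUB. -/

set_option autoImplicit false
set_option linter.unusedSectionVars false

namespace Cfsg.Agent.Helper23.SGF

open Module Cfsg.Agent.Helper8.FrobLin Cfsg.Agent.Helper8.HHLin

universe u v w

attribute [local instance] dualAct

/-- the index of an intersection is at most the product of the indices -/
theorem card_le_prod_of_inter {G : Type*} [Group G] [Finite G] {ι : Type*} (I : Finset ι)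
    (Q Z : Subgroup G) (R : ι → Subgroup G) (k : ι → ℕ)
    (hk : ∀ i ∈ I, Nat.card ↥Q = k i * Nat.card ↥(R i)) (hRQ : ∀ i ∈ I, R i ≤ Q)
    (hZ : ∀ g ∈ Q, (∀ i ∈ I, g ∈ R i) → g ∈ Z) :
    Nat.card ↥Q ≤ (∏ i ∈ I, k i) * Nat.card ↥Z := by
  classical
  have step : ∀ (A R' : Subgroup G) (c : ℕ), A ≤ Q → R' ≤ Q → Nat.card ↥Q = c * Nat.card ↥R' →
      Nat.card ↥A ≤ c * Nat.card ↥(A ⊓ R') := by
    intro A R' c hA hR hc
    have h1 : Nat.card ↥R' * R'.relIndex Q = Nat.card ↥Q := by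
      have := Subgroup.relIndex_mul_relIndex ⊥ R' Q bot_le hR
      rwa [Subgroup.relIndex_bot_left, Subgroup.relIndex_bot_left] at this
    have hpos : 0 < Nat.card ↥R' := Nat.card_pos
    have hc' : R'.relIndex Q = c := by
      have : R'.relIndex Q * Nat.card ↥R' = c * Nat.card ↥R' := by rw [mul_comm, h1, hc]
      exact Nat.eq_of_mul_eq_mul_right hpos this
    have hne : R'.relIndex Q ≠ 0 := by
      intro h0
      rw [h0, mul_zero] at h1
      exact (Nat.card_pos (α := ↥Q)).ne' h1.symm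
    have h2 : R'.relIndex A ≤ R'.relIndex Q := Subgroup.relIndex_le_of_le_right hA hne
    have h3 : Nat.card ↥(A ⊓ R') * (A ⊓ R').relIndex A = Nat.card ↥A := by
      have := Subgroup.relIndex_mul_relIndex ⊥ (A ⊓ R') A bot_le inf_le_left
      rwa [Subgroup.relIndex_bot_left, Subgroup.relIndex_bot_left] at this
    rw [Subgroup.inf_relIndex_left] at h3
    calc Nat.card ↥A = Nat.card ↥(A ⊓ R') * R'.relIndex A := h3.symm
      _ ≤ Nat.card ↥(A ⊓ R') * c := Nat.mul_le_mul_left _ (hc' ▸ h2)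
      _ = c * Nat.card ↥(A ⊓ R') := mul_comm _ _
  have main : ∀ J : Finset ι, J ⊆ I → ∃ D : Subgroup G, D ≤ Q ∧
      (∀ g ∈ D, ∀ i ∈ J, g ∈ R i) ∧ Nat.card ↥Q ≤ (∏ i ∈ J, k i) * Nat.card ↥D := by
    intro J
    induction J using Finset.induction_on with
    | empty => intro _; exact ⟨Q, le_rfl, fun g _ i hi => absurd hi (Finset.notMem_empty i), by simp⟩
    | insert a s ha ih =>
      intro hJ
      obtain ⟨D, hDQ, hD, hcard⟩ := ih (fun x hx => hJ (Finset.mem_insert_of_mem hx))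
      have haI : a ∈ I := hJ (Finset.mem_insert_self a s)
      refine ⟨D ⊓ R a, inf_le_left.trans hDQ, ?_, ?_⟩
      · intro g hg i hi
        rw [Subgroup.mem_inf] at hg
        rcases Finset.mem_insert.mp hi with rfl | hi
        · exact hg.2
        · exact hD g hg.1 i hi
      · rw [Finset.prod_insert ha]
        calc Nat.card ↥Q ≤ (∏ i ∈ s, k i) * Nat.card ↥D := hcard
          _ ≤ (∏ i ∈ s, k i) * (k a * Nat.card ↥(D ⊓ R a)) :=
              Nat.mul_le_mul_left _ (step D (R a) (k a) hDQ (hRQ a haI) (hk a haI))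
          _ = k a * (∏ i ∈ s, k i) * Nat.card ↥(D ⊓ R a) := by ring
  obtain ⟨D, hDQ, hD, hcard⟩ := main I le_rfl
  have hDZ : D ≤ Z := fun g hg => hZ g (hDQ hg) (hD g hg)
  calc Nat.card ↥Q ≤ (∏ i ∈ I, k i) * Nat.card ↥D := hcard
    _ ≤ (∏ i ∈ I, k i) * Nat.card ↥Z := Nat.mul_le_mul_left _ (Subgroup.card_le_of_le hDZ)

end Cfsg.Agent.Helper23.SGF
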