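import Mathlib
import Cfsg.Agent.Lib.SG3.SGFKDefs
import Cfsg.Agent.S0022
/-! S3793 design (helper23), piece SGF-KINV (see plans/S3793_plan.md, STAGE 2b). Proved by helper25. -/

set_option autoImplicit false
set_option linter.unusedSectionVars false

namespace Cfsg.Agent.Helper23.SGF

open Module Cfsg.Agent.Helper8.FrobLin Cfsg.Agent.Helper8.HHLin

universe u v w

attribute [local instance] dualAct

variable {F : Type w} [Field F] [IsAlgClosed F] {Γ : Type u} [Group Γ] [Finite Γ]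
  {V : Type v} [AddCommGroup V] [Module F V] [FiniteDimensional F V]
  {ρ : Representation F Γ V} {Q : Subgroup Γ} [Q.Normal] {A X : Subgroup Γ} {p q : ℕ}

/-- an `A`-invariant character of `Z / N₀` is trivial (`C_Q(A) = 1`, coprime action) -/
theorem eq_one_of_invariant (T : Tight ρ Q A X p q) (ψ : KW ρ Q) (h : ∀ a ∈ A, a • ψ = ψ) :
    ψ = 1 := by
  haveI hZn : (KZ ρ Q).Normal := relCenter_normal Q (kerIn ρ Q)
  -- invariance, evaluated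
  have hinv : ∀ a ∈ A, ∀ (z : Γ) (hz : z ∈ KZ ρ Q) (hz' : a * z * a⁻¹ ∈ KZ ρ Q),
      ψ (QuotientGroup.mk ⟨a * z * a⁻¹, hz'⟩) = ψ (QuotientGroup.mk ⟨z, hz⟩) := by
    intro a ha z hz hz'
    have h1 := DFunLike.congr_fun (h a⁻¹ (A.inv_mem ha)) (QuotientGroup.mk ⟨z, hz⟩)
    have h2 : (a⁻¹ • ψ) (QuotientGroup.mk ⟨z, hz⟩)
        = ψ (kap (KZ ρ Q) (KN ρ Q) a⁻¹⁻¹ (QuotientGroup.mk ⟨z, hz⟩)) := rfl
    rw [h2, kap_mk] at h1
    rw [← h1]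
    congr 2
    apply Subtype.ext
    rw [MulAut.conjNormal_apply, inv_inv]
  -- the kernel of `ψ`, as a subgroup of `Γ`
  set Z₁ : Subgroup Γ :=
    ((ψ.comp (QuotientGroup.mk' ((KN ρ Q).subgroupOf (KZ ρ Q)))).ker).map (KZ ρ Q).subtype with hZ₁
  have hmem : ∀ z : Γ, z ∈ Z₁ ↔ ∃ hz : z ∈ KZ ρ Q, ψ (QuotientGroup.mk ⟨z, hz⟩) = 1 := by
    intro z
    rw [hZ₁, Subgroup.mem_map]
    constructor
    · rintro ⟨x, hx, rfl⟩
      exact ⟨x.2, hx⟩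
    · rintro ⟨hz, hψ⟩
      exact ⟨⟨z, hz⟩, hψ, rfl⟩
  have hZ₁le : Z₁ ≤ KZ ρ Q := by
    intro z hz
    obtain ⟨hz', -⟩ := (hmem z).1 hz
    exact hz'
  -- conjugation by elements of `Z` and of `A` preserves `Z₁`
  have hconjZ : ∀ g ∈ KZ ρ Q, ∀ z ∈ Z₁, g * z * g⁻¹ ∈ Z₁ := by
    intro g hg z hz
    obtain ⟨hz', hψ⟩ := (hmem z).1 hz
    rw [hmem]
    refine ⟨(KZ ρ Q).mul_mem ((KZ ρ Q).mul_mem hg hz') ((KZ ρ Q).inv_mem hg), ?_⟩
    have e : (⟨g * z * g⁻¹, (KZ ρ Q).mul_mem ((KZ ρ Q).mul_mem hg hz') ((KZ ρ Q).inv_mem hg)⟩ : ↥(KZ ρ Q))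
        = ⟨g, hg⟩ * ⟨z, hz'⟩ * ⟨g, hg⟩⁻¹ := rfl
    rw [e, QuotientGroup.mk_mul, QuotientGroup.mk_mul, QuotientGroup.mk_inv, map_mul, map_mul,
      map_inv, hψ, mul_one, mul_inv_cancel]
  have hconjA : ∀ a ∈ A, ∀ z ∈ Z₁, a * z * a⁻¹ ∈ Z₁ := by
    intro a ha z hz
    obtain ⟨hz', hψ⟩ := (hmem z).1 hz
    rw [hmem]
    have hz'' : a * z * a⁻¹ ∈ KZ ρ Q := hZn.conj_mem z hz' a
    exact ⟨hz'', by rw [hinv a ha z hz' hz'', hψ]⟩
  have norm_of_conj : ∀ (S : Subgroup Γ), (∀ g ∈ S, ∀ z ∈ Z₁, g * z * g⁻¹ ∈ Z₁) →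
      S ≤ Subgroup.normalizer (Z₁ : Set Γ) := by
    intro S hS g hg
    rw [Subgroup.mem_normalizer_iff]
    intro z
    constructor
    · intro hz
      exact hS g hg z hz
    · intro hz
      have := hS g⁻¹ (S.inv_mem hg) _ hz
      have e : g⁻¹ * (g * z * g⁻¹) * g⁻¹⁻¹ = z := by group
      rwa [e] at this
  -- coprimality and solvability
  haveI : Fact p.Prime := ⟨T.hp⟩
  haveI : Fact q.Prime := ⟨T.hq⟩
  have hcop : (Nat.card ↥A).Coprime (Nat.card ↥(KZ ρ Q)) := by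
    obtain ⟨i, hi⟩ := IsPGroup.iff_card.mp T.hA
    have hZq : IsPGroup q ↥(KZ ρ Q) := T.hQ.to_le (relCenter_le Q (kerIn ρ Q))
    obtain ⟨j, hj⟩ := IsPGroup.iff_card.mp hZq
    rw [hi, hj]
    exact Nat.Coprime.pow _ _ ((Nat.coprime_primes T.hp T.hq).mpr T.hpq)
  have hsolv : Group.IsSolvable ↥A ∨ Group.IsSolvable ↥(KZ ρ Q) := by
    left
    haveI := T.hAc
    exact isSolvable_of_comm (fun a b => (IsCyclic.commGroup (α := ↥A)).mul_comm a b)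
  have hAZ : A ≤ Subgroup.normalizer ((KZ ρ Q : Subgroup Γ) : Set Γ) := by
    intro a _
    rw [Subgroup.normalizer_eq_top]
    exact Subgroup.mem_top a
  -- every element of `Z` lies in `Z₁`
  have hall : ∀ z ∈ KZ ρ Q, z ∈ Z₁ := by
    intro z hz
    have hfix : ∀ a ∈ A, a * z * a⁻¹ * z⁻¹ ∈ Z₁ := by
      intro a ha
      rw [hmem]
      have hz'' : a * z * a⁻¹ ∈ KZ ρ Q := hZn.conj_mem z hz a
      refine ⟨(KZ ρ Q).mul_mem hz'' ((KZ ρ Q).inv_mem hz), ?_⟩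
      have e : (⟨a * z * a⁻¹ * z⁻¹, (KZ ρ Q).mul_mem hz'' ((KZ ρ Q).inv_mem hz)⟩ : ↥(KZ ρ Q))
          = ⟨a * z * a⁻¹, hz''⟩ * ⟨z, hz⟩⁻¹ := rfl
      rw [e, QuotientGroup.mk_mul, QuotientGroup.mk_inv, map_mul, map_inv, hinv a ha z hz hz'',
        mul_inv_cancel]
    obtain ⟨c, hc, hzc⟩ := Cfsg.Agent.S0022.result A (KZ ρ Q) hAZ hcop hsolv Z₁ hZ₁le
      (norm_of_conj _ hconjZ) (norm_of_conj _ hconjA) z hz hfix
    have hcQ : c ∈ Q := relCenter_le Q (kerIn ρ Q) hc.1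
    have hc1 : c = 1 := by
      apply T.hfpf c hcQ
      intro a ha
      exact (Subgroup.mem_centralizer_iff.mp hc.2) a ha
    rw [hc1, mul_one] at hzc
    have := Z₁.inv_mem hzc
    rwa [inv_inv] at this
  apply MonoidHom.ext
  intro x
  induction x using QuotientGroup.induction_on with
  | H z =>
    obtain ⟨hz, hψ⟩ := (hmem (z : Γ)).1 (hall z z.2)
    rw [MonoidHom.one_apply]
    exact hψ

end Cfsg.Agent.Helper23.SGF
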