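import Mathlib
import Cfsg.Agent.Lib.SG3.SGFKDefs
import Cfsg.Agent.Lib.SG3.SGFKINV
/-! S3793 design (helper23), piece SGF-KPROD (see plans/S3793_plan.md, STAGE 2b). STUB. -/

set_option autoImplicit false
set_option linter.unusedSectionVars false

namespace Cfsg.Agent.Helper23.SGF

open Module Cfsg.Agent.Helper8.FrobLin Cfsg.Agent.Helper8.HHLin

universe u v w

attribute [local instance] dualAct

variable {F : Type w} [Field F] [IsAlgClosed F] {Γ : Type u} [Group Γ] [Finite Γ]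
  {V : Type v} [AddCommGroup V] [Module F V] [FiniteDimensional F V]
  {ρ : Representation F Γ V} {Q : Subgroup Γ} [Q.Normal] {A X : Subgroup Γ} {p q : ℕ}

/-- the product of the occurring weights is `A`-invariant, hence trivial -/
theorem prod_weights_eq_one (T : Tight ρ Q A X p q) (O : Finset (KW ρ Q))
    (hO : ∀ χ, χ ∈ O ↔ KP ρ Q χ ≠ 0) : ∏ χ ∈ O, χ = (1 : KW ρ Q) := by
  apply eq_one_of_invariant T
  intro a ha
  -- the action of `a` as a monoid homomorphism
  have hsmul_mul : ∀ (χ χ' : KW ρ Q), a • (χ * χ') = a • χ * a • χ' := by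
    intro χ χ'
    apply MonoidHom.ext
    intro x
    rfl
  have hsmul_one : a • (1 : KW ρ Q) = 1 := by
    apply MonoidHom.ext
    intro x
    rfl
  let Φ : KW ρ Q →* KW ρ Q :=
    { toFun := fun χ => a • χ
      map_one' := hsmul_one
      map_mul' := hsmul_mul }
  have h1 : a • ∏ χ ∈ O, χ = ∏ χ ∈ O, a • χ := map_prod Φ (fun χ => χ) O
  rw [h1]
  -- the occurring weights are permuted
  have hmem : ∀ (g : Γ) (χ : KW ρ Q), χ ∈ O → g • χ ∈ O := by
    intro g χ hχ
    rw [hO] at hχ ⊢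
    intro h0
    apply hχ
    apply LinearMap.ext
    intro v
    let _ : Fintype ↥(KZ ρ Q) := Fintype.ofFinite _
    have h2 := wproj_equi ρ (KZ ρ Q) (KN ρ Q) g χ v
    have h3 : ρ g (KP ρ Q χ v) = KP ρ Q (g • χ) (ρ g v) := h2
    rw [h0, LinearMap.zero_apply] at h3
    have h4 := rho_inv_rho ρ g (KP ρ Q χ v)
    rw [h3, map_zero] at h4
    rw [← h4]
    rfl
  exact Finset.prod_nbij' (fun χ => a • χ) (fun χ => a⁻¹ • χ) (fun χ hχ => hmem a χ hχ)
    (fun χ hχ => hmem a⁻¹ χ hχ) (fun χ _ => inv_smul_smul a χ) (fun χ _ => smul_inv_smul a χ)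
    (fun χ _ => rfl)

end Cfsg.Agent.Helper23.SGF
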