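import Mathlib
import Cfsg.Agent.Lib.SG3.SGFKDefs
import Cfsg.Agent.Lib.SG3.SGFKPROD
/-! S3793 design (helper23), piece SGF-KKILL (see plans/S3793_plan.md, STAGE 2b). STUB. -/

set_option autoImplicit false
set_option linter.unusedSectionVars false

namespace Cfsg.Agent.Helper23.SGF

open Module Cfsg.Agent.Helper8.FrobLin Cfsg.Agent.Helper8.HHLin

universe u v w

attribute [local instance] dualAct

variable {F : Type w} [Field F] [IsAlgClosed F] {Γ : Type u} [Group Γ] [Finite Γ]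
  {V : Type v} [AddCommGroup V] [Module F V] [FiniteDimensional F V]
  {ρ : Representation F Γ V} {Q : Subgroup Γ} [Q.Normal] {A X : Subgroup Γ} {p q : ℕ}

/-- THE KILL: an element of `Q` in the radical of every occurring weight but `χ₁` is in the
radical of `χ₁` as well (the product of all occurring weights is trivial) -/
theorem inRad_of_inRad_others (T : Tight ρ Q A X p q) (O : Finset (KW ρ Q))
    (hO : ∀ χ, χ ∈ O ↔ KP ρ Q χ ≠ 0) (χ₁ : KW ρ Q) (hχ₁ : χ₁ ∈ O) (g : Γ) (hg : g ∈ Q)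
    (h : ∀ χ ∈ O, χ ≠ χ₁ → InRad ρ Q χ g) : InRad ρ Q χ₁ g := by
  classical
  refine ⟨hg, ?_⟩
  intro u hu w hw
  have hz : g * u * g⁻¹ * u⁻¹ ∈ KZ ρ Q := T.hQZ g hg u hu
  set z : ↥(KZ ρ Q) := ⟨g * u * g⁻¹ * u⁻¹, hz⟩ with hzdef
  -- the action of `z` on a weight vector
  have hact : ∀ (χ : KW ρ Q) (v : V),
      ρ (g * u * g⁻¹ * u⁻¹) (KP ρ Q χ v)
        = ((χ (QuotientGroup.mk z) : Fˣ) : F) • KP ρ Q χ v := by
    intro χ v
    let _ : Fintype ↥(KZ ρ Q) := Fintype.ofFinite _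
    exact wproj_act ρ (KZ ρ Q) (KN ρ Q) χ z v
  -- the other occurring weights are trivial on `z`
  have hother : ∀ χ ∈ O.erase χ₁, χ (QuotientGroup.mk z) = 1 := by
    intro χ hχ
    rw [Finset.mem_erase] at hχ
    have hrad := h χ hχ.2 hχ.1
    have hne : KP ρ Q χ ≠ 0 := (hO χ).mp hχ.2
    obtain ⟨v, hv⟩ : ∃ v, KP ρ Q χ v ≠ 0 := by
      by_contra hcon
      push Not at hcon
      apply hne
      apply LinearMap.ext
      intro v
      rw [hcon v]
      rfl
    have h1 := hrad.2 u hu (KP ρ Q χ v) ⟨v, rfl⟩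
    rw [hact χ v] at h1
    have h2 : (((χ (QuotientGroup.mk z) : Fˣ) : F) - 1) • KP ρ Q χ v = 0 := by
      rw [sub_smul, one_smul, h1, sub_self]
    rcases smul_eq_zero.mp h2 with h3 | h3
    · apply Units.ext
      rw [Units.val_one]
      exact sub_eq_zero.mp h3
    · exact absurd h3 hv
  have hprod := prod_weights_eq_one T O hO
  have h1 : (∏ χ ∈ O, χ) (QuotientGroup.mk z) = 1 := by
    rw [hprod]
    rfl
  rw [MonoidHom.finsetProd_apply, ← Finset.mul_prod_erase O _ hχ₁,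
    Finset.prod_eq_one hother, mul_one] at h1
  obtain ⟨v, rfl⟩ := hw
  rw [hact χ₁ v, h1, Units.val_one, one_smul]

end Cfsg.Agent.Helper23.SGF
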