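import Mathlib
import Cfsg.Agent.Lib.SG3.SGFKDefs

/-! S3793 design (helper23), piece SGF-KORBC (see plans/S3793_plan.md, STAGE 2b). Proved by helper10. -/

set_option autoImplicit false
set_option linter.unusedSectionVars false

namespace Cfsg.Agent.Helper23.SGF

open Module Cfsg.Agent.Helper8.FrobLin Cfsg.Agent.Helper8.HHLin

universe u v w

attribute [local instance] dualAct

variable {F : Type w} [Field F] [IsAlgClosed F] {Γ : Type u} [Group Γ] [Finite Γ]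
  {V : Type v} [AddCommGroup V] [Module F V] [FiniteDimensional F V]
  {ρ : Representation F Γ V} {Q : Subgroup Γ} [Q.Normal] {A X : Subgroup Γ} {p q : ℕ}

/-- the occurring weights form one `A`-orbit, whose length times the order of a subgroup of the
stabiliser is at most `|A|` -/
theorem card_orbit_mul_le (T : Tight ρ Q A X p q) (O : Finset (KW ρ Q))
    (hO : ∀ χ, χ ∈ O ↔ KP ρ Q χ ≠ 0) (χ₁ : KW ρ Q) (hχ₁ : χ₁ ∈ O) (B' : Subgroup Γ)
    (hB'A : B' ≤ A) (hB' : ∀ b ∈ B', b • χ₁ = χ₁) :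
    O.card * Nat.card ↥B' ≤ Nat.card ↥A := by
  classical
  obtain ⟨χ₀, hχ₀⟩ := T.hsingle
  have horb : ∀ χ ∈ O, χ ∈ MulAction.orbit ↥A χ₁ := by
    intro χ hχ
    obtain ⟨a, ha, rfl⟩ := hχ₀ χ ((hO χ).1 hχ)
    obtain ⟨a₁, ha₁, h1⟩ := hχ₀ χ₁ ((hO χ₁).1 hχ₁)
    refine ⟨⟨a * a₁⁻¹, A.mul_mem ha (A.inv_mem ha₁)⟩, ?_⟩
    change (a * a₁⁻¹) • χ₁ = a • χ₀
    rw [h1, mul_smul, inv_smul_smul]
  have h1 : O.card ≤ Nat.card ↥(MulAction.orbit ↥A χ₁) := by
    have hc : Nat.card ↥O = O.card := by simp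
    rw [← hc]
    apply Nat.card_le_card_of_injective
      (fun χ : ↥O => (⟨χ.1, horb χ.1 χ.2⟩ : ↥(MulAction.orbit ↥A χ₁)))
    intro χ χ' h
    apply Subtype.ext
    exact congrArg (fun z : ↥(MulAction.orbit ↥A χ₁) => (z : KW ρ Q)) h
  have h2 : Nat.card ↥B' ≤ Nat.card ↥(MulAction.stabilizer ↥A χ₁) := by
    have hle : B'.subgroupOf A ≤ MulAction.stabilizer ↥A χ₁ := by
      intro b hb
      rw [MulAction.mem_stabilizer_iff]
      exact hB' b.1 (Subgroup.mem_subgroupOf.1 hb)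
    calc Nat.card ↥B' = Nat.card ↥(B'.subgroupOf A) :=
          (Nat.card_congr (Subgroup.subgroupOfEquivOfLe hB'A).toEquiv).symm
      _ ≤ Nat.card ↥(MulAction.stabilizer ↥A χ₁) := Subgroup.card_le_of_le hle
  have h3 : Nat.card ↥(MulAction.orbit ↥A χ₁) * Nat.card ↥(MulAction.stabilizer ↥A χ₁)
      = Nat.card ↥A := by
    rw [Nat.card_congr (MulAction.orbitEquivQuotientStabilizer ↥A χ₁)]
    exact (Subgroup.card_eq_card_quotient_mul_card_subgroup _).symm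
  calc O.card * Nat.card ↥B'
      ≤ Nat.card ↥(MulAction.orbit ↥A χ₁) * Nat.card ↥(MulAction.stabilizer ↥A χ₁) :=
        Nat.mul_le_mul h1 h2
    _ = Nat.card ↥A := h3

end Cfsg.Agent.Helper23.SGF
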