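import Mathlib
import Cfsg.Agent.Lib.SG3.SGFKDefs
import Cfsg.Agent.Lib.SG3.SGFKLOC
import Cfsg.Agent.Lib.SG3.SGFKRADI
import Cfsg.Agent.Lib.SG3.SGFKKILL
import Cfsg.Agent.Lib.SG3.SGFKIDX
import Cfsg.Agent.Lib.SG3.SGFKORBC
import Cfsg.Agent.Lib.SG3.SGFKCONG
import Cfsg.Agent.Lib.SG3.SGFKAR2

/-! S3793 design (helper23): `tight_two` (assembly): `q = 2` is impossible (helper27's kill). -/

set_option autoImplicit false
set_option linter.unusedSectionVars false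

namespace Cfsg.Agent.Helper23.SGF

open Module Cfsg.Agent.Helper8.FrobLin Cfsg.Agent.Helper8.HHLin

universe u v w

attribute [local instance] dualAct

variable {F : Type w} [Field F] [IsAlgClosed F] {Γ : Type u} [Group Γ] [Finite Γ]
  {V : Type v} [AddCommGroup V] [Module F V] [FiniteDimensional F V]
  {ρ : Representation F Γ V} {Q : Subgroup Γ} [Q.Normal] {A X : Subgroup Γ} {p q : ℕ}

theorem tight_two (T : Tight ρ Q A X p q) (hq2 : q = 2) : False := by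
  classical
  letI : Fintype (KW ρ Q) := Fintype.ofFinite _
  set O : Finset (KW ρ Q) := Finset.univ.filter (fun χ => KP ρ Q χ ≠ 0) with hOdef
  have hO : ∀ χ, χ ∈ O ↔ KP ρ Q χ ≠ 0 := by
    intro χ
    rw [hOdef, Finset.mem_filter]
    exact ⟨fun h => h.2, fun h => ⟨Finset.mem_univ _, h⟩⟩
  -- local data
  have hloc : ∀ χ : KW ρ Q, ∃ (R : Subgroup Γ) (s j : ℕ), KP ρ Q χ ≠ 0 →
      ((∀ g, g ∈ R ↔ InRad ρ Q χ g) ∧ Nat.card ↥Q = s ^ 2 * Nat.card ↥R ∧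
        (s = 1 ∨ (1 ≤ j ∧ s + 1 = p ^ j ∧
          ∃ B' : Subgroup Γ, B' ≤ A ∧ Nat.card ↥B' = p ^ j ∧ ∀ b ∈ B', b • χ = χ))) := by
    intro χ
    by_cases hχ : KP ρ Q χ ≠ 0
    · obtain ⟨R, s, j, h⟩ := tight_local T χ hχ
      exact ⟨R, s, j, fun _ => h⟩
    · exact ⟨⊥, 0, 0, fun h => absurd h hχ⟩
  choose R s j hRsj using hloc
  have hQpos : 0 < Nat.card ↥Q := Nat.card_pos
  -- `O` is non-empty
  have hOne : O.Nonempty := by
    by_contra hcon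
    rw [Finset.not_nonempty_iff_eq_empty] at hcon
    apply not_all_inRad T
    intro χ hχ
    have := (hO χ).mpr hχ
    rw [hcon] at this
    exact absurd this (Finset.notMem_empty χ)
  obtain ⟨χ₁, hχ₁O, hmax⟩ := Finset.exists_max_image O s hOne
  have hχ₁ := (hO χ₁).mp hχ₁O
  obtain ⟨hR₁, hcard₁, hs₁⟩ := hRsj χ₁ hχ₁
  have hspos : ∀ χ ∈ O, 1 ≤ s χ := by
    intro χ hχO
    obtain ⟨_, hc, _⟩ := hRsj χ ((hO χ).mp hχO)
    by_contra hcon
    have h0 : s χ = 0 := by omega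
    rw [h0] at hc
    simp at hc
    omega
  have hs₁ne : s χ₁ ≠ 1 := by
    intro h1
    apply not_all_inRad T
    intro χ hχ g hg
    have hχO := (hO χ).mpr hχ
    obtain ⟨hRχ, hc, _⟩ := hRsj χ hχ
    have hsχ : s χ = 1 := le_antisymm (by rw [← h1]; exact hmax χ hχO) (hspos χ hχO)
    rw [hsχ, one_pow, one_mul] at hc
    have hRQ : R χ ≤ Q := fun g hg => ((hRχ g).mp hg).1
    have hRQe : R χ = Q := Subgroup.eq_of_le_of_card_ge hRQ (by rw [hc])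
    exact (hRχ g).mp (by rw [hRQe]; exact hg)
  obtain ⟨hj1, hsj, B', hB'A, hB'card, hB'χ⟩ := hs₁.resolve_left hs₁ne
  -- the index bound
  have hidx : Nat.card ↥Q ≤ (∏ χ ∈ O.erase χ₁, s χ ^ 2) * Nat.card ↥(KZ ρ Q) := by
    apply card_le_prod_of_inter (O.erase χ₁) Q (KZ ρ Q) R (fun χ => s χ ^ 2)
    · intro χ hχ
      exact (hRsj χ ((hO χ).mp (Finset.mem_of_mem_erase hχ))).2.1
    · intro χ hχ g hg
      exact (((hRsj χ ((hO χ).mp (Finset.mem_of_mem_erase hχ))).1 g).mp hg).1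
    · intro g hg hall
      apply mem_KZ_of_inRad T g hg
      intro χ hχ
      have hχO := (hO χ).mpr hχ
      by_cases hχ1 : χ = χ₁
      · rw [hχ1]
        apply inRad_of_inRad_others T O hO χ₁ hχ₁O g hg
        intro χ' hχ'O hne
        exact ((hRsj χ' ((hO χ').mp hχ'O)).1 g).mp
          (hall χ' (Finset.mem_erase.mpr ⟨hne, hχ'O⟩))
      · exact ((hRsj χ hχ).1 g).mp (hall χ (Finset.mem_erase.mpr ⟨hχ1, hχO⟩))
  have hprodle : ∏ χ ∈ O.erase χ₁, s χ ^ 2 ≤ (s χ₁ ^ 2) ^ (O.card - 1) := by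
    calc ∏ χ ∈ O.erase χ₁, s χ ^ 2 ≤ ∏ _χ ∈ O.erase χ₁, s χ₁ ^ 2 :=
          Finset.prod_le_prod (fun _ _ => Nat.zero_le _)
            (fun χ hχ => Nat.pow_le_pow_left (hmax χ (Finset.mem_of_mem_erase hχ)) 2)
      _ = (s χ₁ ^ 2) ^ (O.erase χ₁).card := Finset.prod_const _
      _ = (s χ₁ ^ 2) ^ (O.card - 1) := by rw [Finset.card_erase_of_mem hχ₁O]
  -- the congruence modulo `|A|`
  have hQn : Q.Normal := inferInstance
  have hZn : (KZ ρ Q).Normal := inferInstance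
  obtain ⟨k, hk, hkmod⟩ := card_modEq_of_fpf Q (KZ ρ Q) A T.hZQ.le
    (fun e _ g hg => hQn.conj_mem g hg e) (fun e _ g hg => hZn.conj_mem g hg e)
    (fun e _ g hg => hZn.conj_mem g hg e) T.hfpfA
  have hZpos : 0 < Nat.card ↥(KZ ρ Q) := Nat.card_pos
  -- everything is a power of two
  subst hq2
  haveI : Fact (Nat.Prime 2) := ⟨T.hq⟩
  haveI : Fact p.Prime := ⟨T.hp⟩
  obtain ⟨a, ha⟩ := T.hQ.exists_card_eq
  obtain ⟨n, hn⟩ := T.hA.exists_card_eq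
  have hkd : k ∣ 2 ^ a := by rw [← ha, hk]; exact Dvd.intro _ rfl
  obtain ⟨t, _, hkt⟩ := (Nat.dvd_prime_pow T.hq).mp hkd
  have hsd : s χ₁ ∣ 2 ^ a := by
    rw [← ha, hcard₁]
    exact Dvd.intro (s χ₁ * Nat.card ↥(R χ₁)) (by ring)
  obtain ⟨b, _, hsb⟩ := (Nat.dvd_prime_pow T.hq).mp hsd
  -- `k > 1`
  have hk1 : 1 < k := by
    have hlt : Nat.card ↥(KZ ρ Q) < Nat.card ↥Q := by
      by_contra hcon
      exact absurd (Subgroup.eq_of_le_of_card_ge T.hZQ.le (not_lt.mp hcon)) T.hZQ.ne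
    rw [hk] at hlt
    by_contra hcon
    have hk' : k ≤ 1 := not_lt.mp hcon
    have : k * Nat.card ↥(KZ ρ Q) ≤ 1 * Nat.card ↥(KZ ρ Q) := Nat.mul_le_mul_right _ hk'
    omega
  have ht0 : 0 < t := by
    by_contra hcon
    have h0 : t = 0 := by omega
    rw [h0, pow_zero] at hkt
    omega
  -- `k ≤ (s₁²)^(m-1)`
  have hkle : k ≤ (s χ₁ ^ 2) ^ (O.card - 1) := by
    have h1 : k * Nat.card ↥(KZ ρ Q) ≤ (s χ₁ ^ 2) ^ (O.card - 1) * Nat.card ↥(KZ ρ Q) := by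
      rw [← hk]
      exact hidx.trans (Nat.mul_le_mul_right _ hprodle)
    exact Nat.le_of_mul_le_mul_right h1 hZpos
  have htle : t ≤ 2 * b * (O.card - 1) := by
    rw [hkt, hsb, ← pow_mul, ← pow_mul] at hkle
    have := (Nat.pow_le_pow_iff_right (by norm_num : 1 < 2)).mp hkle
    calc t ≤ b * (2 * (O.card - 1)) := this
      _ = 2 * b * (O.card - 1) := by ring
  have hm : O.card * p ^ j χ₁ ≤ p ^ n := by
    rw [← hB'card, ← hn]
    exact card_orbit_mul_le T O hO χ₁ hχ₁O B' hB'A hB'χ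
  have hdvd : p ^ n ∣ 2 ^ t - 1 := by
    rw [← hkt, ← hn]
    exact (Nat.modEq_iff_dvd' hk1.le).mp hkmod.symm
  have hb : 2 ^ b + 1 = p ^ j χ₁ := by rw [← hsb]; exact hsj
  exact arith_kill T.hp T.hp2 hj1 hb hm ht0 htle hdvd

end Cfsg.Agent.Helper23.SGF
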