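import Mathlib
import Cfsg.Agent.Lib.SG3.SGFKDefs
import Cfsg.Agent.Lib.SG3.SGFKODD
import Cfsg.Agent.Lib.SG3.SGFKTWO

/-! S3793 design (helper23): `tight_false` (assembly of `tight_odd` and `tight_two`). -/

set_option autoImplicit false
set_option linter.unusedSectionVars false

namespace Cfsg.Agent.Helper23.SGF

open Module Cfsg.Agent.Helper8.FrobLin Cfsg.Agent.Helper8.HHLin

universe u v w

attribute [local instance] dualAct

/-- the minimal configuration is contradictory (assembly of the local Hall–Higman analysis,
the odd case and the `q = 2` kill) -/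
theorem tight_false {F : Type w} [Field F] [IsAlgClosed F] {Γ : Type u} [Group Γ] [Finite Γ]
    {V : Type v} [AddCommGroup V] [Module F V] [FiniteDimensional F V]
    (ρ : Representation F Γ V) (Q : Subgroup Γ) [Q.Normal] (A X : Subgroup Γ) (p q : ℕ)
    (T : Tight ρ Q A X p q) : False := by
  by_cases hq2 : q = 2
  · exact tight_two T hq2
  · exact tight_odd T hq2

end Cfsg.Agent.Helper23.SGF
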