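import Mathlib
import Cfsg.Agent.Lib.Helper8.HHLin14
import Cfsg.Agent.Lib.SG3.SGFKDefs
import Cfsg.Agent.Lib.SG3.SGFKCore

/-!
# S3793 design (helper23): the KEY LEMMA (linear)

`key`: `A` a cyclic `p`-group (`p` odd) normalising the `q`-group `Q` (`q ≠ p`) with `C_Q(A) = 1`,
both acting on a finite-dimensional space `V` over an algebraically closed field in which `p`, `q`
are invertible.  If `A` has no non-zero fixed vector on `V` then the subgroup `X ≤ A` of order `p`
commutes with `Q` on `V`.  (Assembly: strong induction on `|Q| + dim V`, reduction to `Q ⊔ A = ⊤`,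
then `key_core`.)
-/

set_option autoImplicit false
set_option linter.unusedSectionVars false

namespace Cfsg.Agent.Helper23.SGF

open Module Cfsg.Agent.Helper8.FrobLin

universe u v w

theorem key_all {F : Type w} [Field F] [IsAlgClosed F] {p q : ℕ} (hp : p.Prime) (hp2 : p ≠ 2)
    (hq : q.Prime) (hpq : p ≠ q) (hpF : (p : F) ≠ 0) (hqF : (q : F) ≠ 0) :
    ∀ N, KeyStmt.{u, v, w} F p q N := by
  intro N
  induction N using Nat.strong_induction_on with
  | _ N IH =>
    intro Γ _ _ V _ _ _ ρ Q A X hn hAQ hQ hAc hA hXA hX hfix hfpf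
    set H : Subgroup Γ := Q ⊔ A with hH
    have hQH : Q ≤ H := le_sup_left
    have hAH : A ≤ H := le_sup_right
    have hXH : X ≤ H := hXA.trans hAH
    set ρ' : Representation F ↥H V := ρ.comp H.subtype with hρ'
    have hρ'a : ∀ h : ↥H, ρ' h = ρ (h : Γ) := fun h => rfl
    have htop : Q.subgroupOf H ⊔ A.subgroupOf H = ⊤ := by
      rw [← Subgroup.subgroupOf_sup hQH hAH, Subgroup.subgroupOf_self]
    have hcQ : Nat.card ↥(Q.subgroupOf H) = Nat.card ↥Q :=
      Nat.card_congr (Subgroup.subgroupOfEquivOfLe hQH).toEquiv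
    have hcX : Nat.card ↥(X.subgroupOf H) = Nat.card ↥X :=
      Nat.card_congr (Subgroup.subgroupOfEquivOfLe hXH).toEquiv
    have h1 : ∀ a ∈ A.subgroupOf H, ∀ g ∈ Q.subgroupOf H, a * g * a⁻¹ ∈ Q.subgroupOf H := by
      intro x hx g hg
      rw [Subgroup.mem_subgroupOf] at hx hg ⊢
      exact hAQ _ hx _ hg
    have h2 : IsPGroup q ↥(Q.subgroupOf H) := hQ.comap_subtype
    have h2A : IsPGroup p ↥(A.subgroupOf H) := hA.comap_subtype
    have h2c : IsCyclic ↥(A.subgroupOf H) := by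
      haveI := hAc
      exact isCyclic_of_surjective (Subgroup.subgroupOfEquivOfLe hAH).symm.toMonoidHom
        (Subgroup.subgroupOfEquivOfLe hAH).symm.surjective
    have h3 : fixedBy ρ' (A.subgroupOf H) = ⊥ := by
      rw [eq_bot_iff]
      intro v hv
      rw [mem_fixedBy] at hv
      have : v ∈ fixedBy ρ A := by
        rw [mem_fixedBy]
        intro x hx
        exact hv ⟨x, hAH hx⟩ hx
      rw [hfix] at this
      exact this
    have h4 : ∀ g ∈ Q.subgroupOf H, (∀ a ∈ A.subgroupOf H, a * g = g * a) → g = 1 := by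
      intro g hg h
      rw [Subgroup.mem_subgroupOf] at hg
      have := hfpf (g : Γ) hg (fun a ha => by
        have := h ⟨a, hAH ha⟩ (by rw [Subgroup.mem_subgroupOf]; exact ha)
        exact congrArg Subtype.val this)
      exact Subtype.ext this
    have h5 : X.subgroupOf H ≤ A.subgroupOf H := by
      intro x hx
      rw [Subgroup.mem_subgroupOf] at hx ⊢
      exact hXA hx
    have key := key_core hp hp2 hq hpq hpF hqF N IH ↥H V ρ' (Q.subgroupOf H) (A.subgroupOf H)
      (X.subgroupOf H) (by rw [hcQ]; exact hn) h1 h2 h2c h2A h5 (by rw [hcX]; exact hX) h3 h4 htop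
    intro g hg x hx
    exact key ⟨g, hQH hg⟩ hg ⟨x, hXH hx⟩ hx

/-- **KEY LEMMA.** -/
theorem key {F : Type w} [Field F] [IsAlgClosed F] {p q : ℕ} (hp : p.Prime) (hp2 : p ≠ 2)
    (hq : q.Prime) (hpq : p ≠ q) (hpF : (p : F) ≠ 0) (hqF : (q : F) ≠ 0)
    {Γ : Type u} [Group Γ] [Finite Γ] {V : Type v} [AddCommGroup V] [Module F V]
    [FiniteDimensional F V] (ρ : Representation F Γ V) (Q A X : Subgroup Γ)
    (hAQ : ∀ a ∈ A, ∀ g ∈ Q, a * g * a⁻¹ ∈ Q) (hQ : IsPGroup q ↥Q)
    (hAc : IsCyclic ↥A) (hA : IsPGroup p ↥A) (hXA : X ≤ A) (hX : Nat.card ↥X = p)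
    (hfix : fixedBy ρ A = ⊥)
    (hfpf : ∀ g ∈ Q, (∀ a ∈ A, a * g = g * a) → g = 1) :
    ∀ g ∈ Q, ∀ x ∈ X, ρ x * ρ g = ρ g * ρ x :=
  key_all hp hp2 hq hpq hpF hqF _ Γ V ρ Q A X rfl hAQ hQ hAc hA hXA hX hfix hfpf

end Cfsg.Agent.Helper23.SGF
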