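import Mathlib
import Cfsg.Agent.Lib.SG3.SGFDefs
import Cfsg.Agent.Lib.SG3.SGFKey
import Cfsg.Agent.Lib.Helper8.SecRep9

/-! S3793 design (helper23), piece SGF-KA (see plans/S3793_plan.md): `X` centralises every normal `q`-subgroup of
`Γ` inside `K`, by the KEY LEMMA and faithfulness.  (helper18) -/

set_option autoImplicit false
set_option linter.unusedSectionVars false

namespace Cfsg.Agent.Helper23.SGF

open Cfsg.Agent.Helper8.FrobLin Cfsg.Agent.Helper8.SecRep

universe u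

variable {Γ : Type u} [Group Γ]

/-- `X` centralises every normal `q`-subgroup of `Γ` inside `K` (KEY LEMMA + faithfulness;
for `q = r` the subgroup is trivial) -/
theorem comm_of_pgroup [Finite Γ] {K A X : Subgroup Γ} {p : ℕ} (cfg : SCfg K A X p)
    (r : ℕ) [Fact r.Prime] (hrp : r ≠ p)
    {W : Type u} [AddCommGroup W] [Module (LK r) W] [FiniteDimensional (LK r) W]
    (ρ : Representation (LK r) Γ W)
    (hinj : ∀ g ∈ K, ρ g = 1 → g = 1) (hfix : fixedBy ρ A = ⊥)
    (hr3 : ∀ N : Subgroup Γ, N.Normal → N ≤ K → IsPGroup r ↥N → N = ⊥)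
    (q : ℕ) [Fact q.Prime] (Q : Subgroup Γ) (hQn : Q.Normal) (hQK : Q ≤ K)
    (hQ : IsPGroup q ↥Q) : ∀ g ∈ Q, ∀ x ∈ X, x * g = g * x := by
  classical
  have hq : q.Prime := Fact.out
  have hr : r.Prime := Fact.out
  by_cases hQbot : Q = ⊥
  · intro g hg x _
    rw [hQbot, Subgroup.mem_bot] at hg
    rw [hg, mul_one, one_mul]
  -- `q ≠ r`
  have hqr : q ≠ r := by
    intro h
    subst h
    exact hQbot (hr3 Q hQn hQK hQ)
  -- `q ∣ card K`, hence `q ≠ p`
  have hqK : q ∣ Nat.card ↥K := by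
    haveI : Nontrivial ↥Q := (Subgroup.nontrivial_iff_ne_bot Q).mpr hQbot
    obtain ⟨n, hn0, hn⟩ := hQ.nontrivial_iff_card.mp inferInstance
    have h1 : q ∣ Nat.card ↥Q := by rw [hn]; exact dvd_pow_self _ (ne_of_gt hn0)
    exact h1.trans (Subgroup.card_dvd_of_le hQK)
  have hpq : p ≠ q := by
    intro h
    subst h
    have := Nat.Coprime.eq_one_of_dvd cfg.cop.symm hqK
    exact hq.one_lt.ne' this
  -- characteristic of the field
  haveI : CharP (LK r) r := inferInstance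
  have hpF : ((p : ℕ) : LK r) ≠ 0 := by
    intro h0
    have hdvd := (CharP.cast_eq_zero_iff (LK r) r p).mp h0
    exact hrp ((Nat.prime_dvd_prime_iff_eq hr cfg.hp).mp hdvd)
  have hqF : ((q : ℕ) : LK r) ≠ 0 := by
    intro h0
    have hdvd := (CharP.cast_eq_zero_iff (LK r) r q).mp h0
    exact hqr ((Nat.prime_dvd_prime_iff_eq hr hq).mp hdvd).symm
  have hkey := key (F := LK r) cfg.hp cfg.hp2 hq hpq hpF hqF ρ Q A X
    (fun a _ g hg => hQn.conj_mem g hg a) hQ cfg.cyc cfg.pgrp cfg.hXA cfg.cardX hfix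
    (fun g hg h => cfg.fpf g (hQK hg) h)
  intro g hg x hx
  have h1 := hkey g hg x hx
  rw [Cfsg.Agent.Helper8.HHLin.rho_comm_iff_commutator] at h1
  have hcQ : x * g * x⁻¹ * g⁻¹ ∈ Q := Q.mul_mem (hQn.conj_mem g hg x) (Q.inv_mem hg)
  have h2 := hinj _ (hQK hcQ) h1
  calc x * g = (x * g * x⁻¹ * g⁻¹) * (g * x) := by group
    _ = g * x := by rw [h2, one_mul]

end Cfsg.Agent.Helper23.SGF
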