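import Mathlib
import Cfsg.Agent.Lib.SG3.SGFDefs

/-! S3793 design (helper23), piece SGF-KB (see plans/S3793_plan.md): a group centralising all normal
subgroups of prime power order inside a nilpotent normal subgroup centralises it.  (helper18) -/

set_option autoImplicit false
set_option linter.unusedSectionVars false

namespace Cfsg.Agent.Helper23.SGF

universe u

variable {Γ : Type u} [Group Γ]

/-- a subgroup of a finite group containing a Sylow `s`-subgroup for every prime `s` is everything -/
theorem sgf_kb_eq_top_of_sylow_le {E : Type*} [Group E] [Finite E] (M : Subgroup E)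
    (hM : ∀ (s : ℕ) [Fact s.Prime], ∃ S : Sylow s E, (S : Subgroup E) ≤ M) : M = ⊤ := by
  rw [← Subgroup.index_eq_one, Nat.eq_one_iff_not_exists_prime_dvd]
  intro s hs hdvd
  haveI : Fact s.Prime := ⟨hs⟩
  obtain ⟨S, hS⟩ := hM s
  exact S.not_dvd_index (hdvd.trans (Subgroup.index_dvd_of_le hS))

/-- `X` centralises a nilpotent normal subgroup as soon as it centralises its normal
subgroups of prime power order (its Sylow subgroups) -/
theorem comm_of_nilpotent [Finite Γ] (N X : Subgroup Γ) [N.Normal] (hnil : Group.IsNilpotent ↥N)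
    (h : ∀ (q : ℕ) [Fact q.Prime] (Q : Subgroup Γ), Q.Normal → Q ≤ N → IsPGroup q ↥Q →
      ∀ g ∈ Q, ∀ x ∈ X, x * g = g * x) :
    ∀ g ∈ N, ∀ x ∈ X, x * g = g * x := by
  classical
  -- every element of a Sylow subgroup of `N` commutes with `X`
  have key : ∀ (s : ℕ) [Fact s.Prime] (S : Sylow s ↥N) (e : ↥N), e ∈ S →
      ∀ x ∈ X, x * (e : Γ) = (e : Γ) * x := by
    intro s hs S e heS
    have hall : ∀ (p : ℕ) (_hp : Fact p.Prime) (P : Sylow p ↥N), (↑P : Subgroup ↥N).Normal :=
      ((Group.isNilpotent_of_finite_tfae (G := ↥N)).out 0 3).mp hnil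
    have hSn : (S : Subgroup ↥N).Normal := hall s hs S
    haveI hSc : (S : Subgroup ↥N).Characteristic := Sylow.characteristic_of_normal S hSn
    have hQn : ((S : Subgroup ↥N).map N.subtype).Normal :=
      ConjAct.normal_of_characteristic_of_normal
    have hQN : (S : Subgroup ↥N).map N.subtype ≤ N := Subgroup.map_subtype_le _
    have hQs : IsPGroup s ↥((S : Subgroup ↥N).map N.subtype) := S.isPGroup'.map _
    have heQ : (e : Γ) ∈ (S : Subgroup ↥N).map N.subtype :=
      Subgroup.mem_map.2 ⟨e, heS, rfl⟩
    exact h s _ hQn hQN hQs (e : Γ) heQ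
  -- the centraliser of `X` in `N` contains all Sylow subgroups of `N`
  have htop : (Subgroup.centralizer (X : Set Γ)).subgroupOf N = ⊤ := by
    apply sgf_kb_eq_top_of_sylow_le
    intro s hs
    refine ⟨default, ?_⟩
    intro e he
    rw [Subgroup.mem_subgroupOf, Subgroup.mem_centralizer_iff]
    intro x hx
    exact key s default e he x hx
  intro g hg x hx
  have h1 : (⟨g, hg⟩ : ↥N) ∈ (Subgroup.centralizer (X : Set Γ)).subgroupOf N := by
    rw [htop]; exact Subgroup.mem_top _
  rw [Subgroup.mem_subgroupOf, Subgroup.mem_centralizer_iff] at h1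
  exact h1 x hx

end Cfsg.Agent.Helper23.SGF
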