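import Mathlib
import Cfsg.Agent.Lib.SG3.SGFDefs
import Cfsg.Agent.Lib.Helper16.Solvable2
import Cfsg.Agent.Lib.Helper8.HHLin12
import Cfsg.Agent.Lib.Helper21.FittingSubgroup

/-! S3793 design (helper23), piece SGF-KC (see plans/S3793_plan.md): a coprime group centralising all
nilpotent normal subgroups inside a solvable normal subgroup `K` centralises `K`.  (helper18) -/

set_option autoImplicit false
set_option linter.unusedSectionVars false

namespace Cfsg.Agent.Helper23.SGF

universe u

variable {Γ : Type u} [Group Γ]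

/-- the Fitting subgroup is characteristic -/
theorem sgf_kc_fitting_characteristic (H : Type*) [Group H] :
    (Cfsg.fittingSubgroup H).Characteristic := by
  rw [Subgroup.characteristic_iff_map_le]
  intro φ
  unfold Cfsg.fittingSubgroup
  rw [Subgroup.map_le_iff_le_comap]
  apply sSup_le
  rintro K ⟨hKn, hKnil⟩
  rw [← Subgroup.map_le_iff_le_comap]
  apply le_sSup
  refine ⟨?_, ?_⟩
  · exact Subgroup.Normal.map hKn φ.toMonoidHom φ.surjective
  · haveI := hKnil
    exact Group.nilpotent_of_mulEquiv (φ.subgroupMap K)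

/-- a coprime group `X` centralising every nilpotent normal subgroup of `Γ` inside the solvable
normal subgroup `K` centralises `K` (`C_K(F(K)) ≤ F(K)`, three subgroups, coprime action) -/
theorem comm_of_fitting [Finite Γ] (K X : Subgroup Γ) [K.Normal] (hsol : Group.IsSolvable ↥K)
    (hcop : (Nat.card ↥K).Coprime (Nat.card ↥X))
    (h : ∀ N : Subgroup Γ, N.Normal → N ≤ K → Group.IsNilpotent ↥N →
      ∀ g ∈ N, ∀ x ∈ X, x * g = g * x) :
    ∀ g ∈ K, ∀ x ∈ X, x * g = g * x := by
  classical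
  haveI hchar : (Cfsg.fittingSubgroup ↥K).Characteristic := sgf_kc_fitting_characteristic ↥K
  have hFn : ((Cfsg.fittingSubgroup ↥K).map K.subtype).Normal :=
    ConjAct.normal_of_characteristic_of_normal
  have hFK : (Cfsg.fittingSubgroup ↥K).map K.subtype ≤ K := Subgroup.map_subtype_le _
  have hFnil : Group.IsNilpotent ↥((Cfsg.fittingSubgroup ↥K).map K.subtype) := by
    haveI := Cfsg.Agent.Helper21.fittingSubgroup_isNilpotent ↥K
    exact Group.nilpotent_of_mulEquiv
      ((Cfsg.fittingSubgroup ↥K).equivMapOfInjective K.subtype K.subtype_injective)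
  have hXF := h _ hFn hFK hFnil
  intro g hg x hx
  obtain ⟨c, hc⟩ : ∃ c : Γ, c = x * g * x⁻¹ * g⁻¹ := ⟨_, rfl⟩
  have hcK : c ∈ K := by
    rw [hc]
    exact K.mul_mem (‹K.Normal›.conj_mem g hg x) (K.inv_mem hg)
  -- `c` centralises `F`
  have hcF : ∀ f ∈ (Cfsg.fittingSubgroup ↥K).map K.subtype, f * c = c * f := by
    intro f hf
    rw [hc]
    apply Cfsg.Agent.Helper8.HHLin.three_sub x g f (hXF f hf x hx)
    have hconj : g⁻¹ * f * g ∈ (Cfsg.fittingSubgroup ↥K).map K.subtype := by
      have := hFn.conj_mem f hf g⁻¹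
      simpa using this
    exact hXF _ hconj x hx
  -- so `c ∈ F`
  have hcmem : c ∈ (Cfsg.fittingSubgroup ↥K).map K.subtype := by
    have h1 : (⟨c, hcK⟩ : ↥K) ∈ Subgroup.centralizer (Cfsg.fittingSubgroup ↥K : Set ↥K) := by
      rw [Subgroup.mem_centralizer_iff]
      intro f hf
      apply Subtype.ext
      have := hcF (f : Γ) (Subgroup.mem_map.2 ⟨f, hf, rfl⟩)
      simpa using this
    have h2 := Cfsg.Agent.Helper16.centralizer_fittingSubgroup_le_of_isSolvable hsol h1
    exact Subgroup.mem_map.2 ⟨⟨c, hcK⟩, h2, rfl⟩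
  have hxc : x * c = c * x := hXF c hcmem x hx
  have hxk : x ^ Nat.card ↥X = 1 := by
    have h1 : (⟨x, hx⟩ : ↥X) ^ Nat.card ↥X = 1 := pow_card_eq_one'
    have h2 := congrArg Subtype.val h1
    rwa [Subgroup.coe_pow, Subgroup.coe_one] at h2
  have hcm : c ^ Nat.card ↥K = 1 := by
    have h1 : (⟨c, hcK⟩ : ↥K) ^ Nat.card ↥K = 1 := pow_card_eq_one'
    have h2 := congrArg Subtype.val h1
    rwa [Subgroup.coe_pow, Subgroup.coe_one] at h2
  have hc1 : x * g * x⁻¹ * g⁻¹ = 1 := by
    apply Cfsg.Agent.Helper8.HHLin.comm_eq_one_of_coprime x g (by rw [← hc]; exact hxc) hxk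
      (by rw [← hc]; exact hcm) hcop.symm
  calc x * g = (x * g * x⁻¹ * g⁻¹) * (g * x) := by group
    _ = g * x := by rw [hc1, one_mul]

end Cfsg.Agent.Helper23.SGF
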