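import Mathlib
import Cfsg.Agent.Lib.SG3.SGFDefs
import Cfsg.Agent.Lib.SG3.SGFKA
import Cfsg.Agent.Lib.SG3.SGFKB
import Cfsg.Agent.Lib.SG3.SGFKC

/-! S3793 design (helper23): `X` centralises `K` (assembly of SGF-KA, KB, KC). -/

set_option autoImplicit false
set_option linter.unusedSectionVars false

namespace Cfsg.Agent.Helper23.SGF

open Cfsg.Agent.Helper8.FrobLin Cfsg.Agent.Helper8.SecRep

universe u

variable {Γ : Type u} [Group Γ]

theorem centralizes_of_rep [Finite Γ] {K A X : Subgroup Γ} {p : ℕ} (cfg : SCfg K A X p)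
    (r : ℕ) [Fact r.Prime] (hrp : r ≠ p)
    {W : Type u} [AddCommGroup W] [Module (LK r) W] [FiniteDimensional (LK r) W]
    (ρ : Representation (LK r) Γ W)
    (hinj : ∀ g ∈ K, ρ g = 1 → g = 1) (hfix : fixedBy ρ A = ⊥)
    (hr3 : ∀ N : Subgroup Γ, N.Normal → N ≤ K → IsPGroup r ↥N → N = ⊥) :
    ∀ g ∈ K, ∀ x ∈ X, x * g = g * x := by
  haveI := cfg.normal
  apply comm_of_fitting K X cfg.sol (by rw [cfg.cardX]; exact cfg.cop)
  intro N hNn hNK hNnil
  haveI := hNn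
  apply comm_of_nilpotent N X hNnil
  intro q _ Q hQn hQN hQ
  exact comm_of_pgroup cfg r hrp ρ hinj hfix hr3 q Q hQn (hQN.trans hNK) hQ

end Cfsg.Agent.Helper23.SGF
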