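import Mathlib
import Cfsg.Agent.Lib.SG3.SGFDefs
import Cfsg.Agent.Lib.SG3.SGFQUOT
import Cfsg.Agent.Lib.SG3.SGFNILP
import Cfsg.Agent.Lib.SG3.SGFThmK
import Cfsg.Agent.Lib.FPQO.FPQOQUOT
import Cfsg.Agent.Lib.FPQO.FPQOMINV
import Cfsg.Agent.Lib.FPQO.FPQOR3
import Cfsg.Agent.Lib.FPQO.FPQOT

/-! S3793 design (helper23): CLAIM `[G, X]` is nilpotent, by induction on `|G|` (assembly). -/

set_option autoImplicit false
set_option linter.unusedSectionVars false

namespace Cfsg.Agent.Helper23.SGF

open Cfsg.Agent.Helper8.FrobLin Cfsg.Agent.Helper8.SecRep Cfsg.Agent.Helper24.FPQO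

universe u

theorem claim_aux (p : ℕ) : ∀ n : ℕ, ∀ (Γ : Type u) [Group Γ] [Finite Γ]
    (G A X : Subgroup Γ), Nat.card ↥G = n → SCfg G A X p → Group.IsNilpotent ↥⁅G, X⁆ := by
  intro n
  induction n using Nat.strong_induction_on with
  | _ n ih =>
    intro Γ _ _ G A X hn cfg
    haveI hGn : G.Normal := cfg.normal
    by_cases hG : G = ⊥
    · subst hG
      rw [Subgroup.commutator_bot_left]
      infer_instance
    · obtain ⟨V, r, hr, hVn, hVG, hV0, hVc, hVr, hVmin⟩ := exists_min_normal_elem G cfg.sol hG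
      haveI := hVn
      haveI : Fact r.Prime := ⟨hr⟩
      have hCn : (G ⊓ Subgroup.centralizer (V : Set Γ)).Normal := inferInstance
      obtain ⟨C, hC⟩ : ∃ C : Subgroup Γ, C = G ⊓ Subgroup.centralizer (V : Set Γ) := ⟨_, rfl⟩
      haveI : C.Normal := by rw [hC]; exact hCn
      have hCG : C ≤ G := by rw [hC]; exact inf_le_left
      have hCV : C ≤ Subgroup.centralizer (V : Set Γ) := by rw [hC]; exact inf_le_right
      have hVC : V ≤ C := by
        rw [hC]
        refine le_inf hVG ?_
        intro x hx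
        rw [Subgroup.mem_centralizer_iff]
        intro y hy
        exact hVc y hy x hx
      -- induction
      have h1 : Group.IsNilpotent
          ↥⁅G.map (QuotientGroup.mk' V), X.map (QuotientGroup.mk' V)⁆ :=
        ih _ (by rw [← hn]; exact card_map_lt G V hVG hV0) (Γ ⧸ V) _ _ _ rfl
          (scfg_quot cfg V hVG)
      have cfg2 := scfg_quot cfg C hCG
      -- `r` divides `|G|`
      have hrG : r ∣ Nat.card ↥G := by
        obtain ⟨x, hx, hx1⟩ : ∃ x ∈ V, x ≠ 1 := by
          by_contra hcon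
          push Not at hcon
          apply hV0
          rw [Subgroup.eq_bot_iff_forall]
          exact hcon
        have ho : orderOf x = r := orderOf_eq_prime (hVr x hx) hx1
        have h2 : orderOf (⟨x, hVG hx⟩ : ↥G) = r := by
          rw [← ho]
          exact (Subgroup.orderOf_mk x (hVG hx))
        rw [← h2]
        exact orderOf_dvd_natCard _
      have hrp : r ≠ p := by
        intro h
        have h3 : r ∣ Nat.gcd (Nat.card ↥G) p := Nat.dvd_gcd hrG (by rw [h])
        rw [Nat.Coprime.gcd_eq_one cfg.cop] at h3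
        exact hr.one_lt.ne' (Nat.dvd_one.mp h3)
      have hrA : ¬ r ∣ Nat.card ↥A := by
        intro hd
        haveI : Fact p.Prime := ⟨cfg.hp⟩
        obtain ⟨k, hk⟩ := cfg.pgrp.exists_card_eq
        rw [hk] at hd
        exact hrp ((Nat.prime_dvd_prime_iff_eq hr cfg.hp).mp (hr.dvd_of_dvd_pow hd))
      -- the representation
      obtain ⟨W, i1, i2, i3, ρ, hρ1, hρ2⟩ := exists_rep V A C r hVc hVr hrA
        (fun v hv h => cfg.fpf v (hVG hv) h) hCV
      have hinj : ∀ g ∈ G.map (QuotientGroup.mk' C), ρ g = 1 → g = 1 := by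
        rintro _ ⟨g, hg, rfl⟩ h
        have h3 := hρ1 g h
        have h4 : g ∈ C := by
          rw [hC]
          exact ⟨hg, h3⟩
        exact (QuotientGroup.eq_one_iff g).mpr h4
      have hr3 : ∀ N : Subgroup (Γ ⧸ C), N.Normal → N ≤ G.map (QuotientGroup.mk' C) →
          IsPGroup r ↥N → N = ⊥ := by
        intro N hNn hNG hNr
        exact no_normal_r_subgroup G V C r hVG hV0 hVr hVc hVmin hC N hNn hNG hNr
      have hK := centralizes_of_rep cfg2 r hrp ρ hinj hρ2 hr3
      have hLC : ⁅G, X⁆ ≤ C := by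
        rw [Subgroup.commutator_le]
        intro g hg x hx
        have h5 := hK (QuotientGroup.mk' C g) (Subgroup.mem_map_of_mem _ hg)
          (QuotientGroup.mk' C x) (Subgroup.mem_map_of_mem _ hx)
        rw [← QuotientGroup.eq_one_iff, commutatorElement_def]
        have h6 : ((g * x * g⁻¹ * x⁻¹ : Γ) : Γ ⧸ C) =
            (QuotientGroup.mk' C g) * (QuotientGroup.mk' C x) * (QuotientGroup.mk' C g)⁻¹ *
              (QuotientGroup.mk' C x)⁻¹ := rfl
        rw [h6, ← h5]
        group
      exact nilpotent_of_two G X V C hVC hCV hLC h1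

/-- **CLAIM.** -/
theorem claim {Γ : Type u} [Group Γ] [Finite Γ] {G A X : Subgroup Γ} {p : ℕ}
    (cfg : SCfg G A X p) : Group.IsNilpotent ↥⁅G, X⁆ :=
  claim_aux p _ Γ G A X rfl cfg

end Cfsg.Agent.Helper23.SGF
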