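import Mathlib
import Cfsg.Agent.Lib.SG3.SGFDefs
import Cfsg.Agent.Lib.SG3.SGFCOP
import Cfsg.Agent.Lib.SG3.SGFClaim

/-! S3793 design (helper23), piece SGF-FIN (see plans/S3793_plan.md).  Proved by helper1:
`claim` applied in `Γ = G ⋊ ⟨σ⟩` with `G₀ = range inl`, `A = range inr`, `X = ⟨inr σ^(p^n)⟩`,
and `N = ⁅G₀, X⁆.comap inl`. -/

set_option autoImplicit false
set_option linter.unusedSectionVars false

namespace Cfsg.Agent.Helper23.SGF

universe u

open scoped commutatorElement

/-- `⁅H, K⁆` is normalised by every element normalising `H` and `K` -/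
theorem sgf_fin_conj_mem {Γ : Type*} [Group Γ] (H K : Subgroup Γ) (s : Γ)
    (hH : ∀ g ∈ H, s * g * s⁻¹ ∈ H) (hK : ∀ x ∈ K, s * x * s⁻¹ ∈ K) :
    ∀ y ∈ ⁅H, K⁆, s * y * s⁻¹ ∈ ⁅H, K⁆ := by
  have hle : ⁅H, K⁆ ≤ (⁅H, K⁆).comap (MulAut.conj s).toMonoidHom := by
    rw [Subgroup.commutator_le]
    intro g hg x hx
    rw [Subgroup.mem_comap]
    show (MulAut.conj s) ⁅g, x⁆ ∈ ⁅H, K⁆
    rw [map_commutatorElement]
    apply Subgroup.commutator_mem_commutator
    · rw [MulAut.conj_apply]
      exact hH g hg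
    · rw [MulAut.conj_apply]
      exact hK x hx
  intro y hy
  have := hle hy
  rw [Subgroup.mem_comap] at this
  exact this

/-- `⁅H, K⁆` is normalised by `H` -/
theorem sgf_fin_left_conj_mem {Γ : Type*} [Group Γ] (H K : Subgroup Γ) (s : Γ) (hs : s ∈ H) :
    ∀ y ∈ ⁅H, K⁆, s * y * s⁻¹ ∈ ⁅H, K⁆ := by
  have hle : ⁅H, K⁆ ≤ (⁅H, K⁆).comap (MulAut.conj s).toMonoidHom := by
    rw [Subgroup.commutator_le]
    intro g hg x hx
    rw [Subgroup.mem_comap]
    show (MulAut.conj s) ⁅g, x⁆ ∈ ⁅H, K⁆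
    rw [MulAut.conj_apply]
    have e : s * ⁅g, x⁆ * s⁻¹ = ⁅s * g, x⁆ * ⁅s, x⁆⁻¹ := by
      simp only [commutatorElement_def]
      group
    rw [e]
    exact (⁅H, K⁆).mul_mem (Subgroup.commutator_mem_commutator (H.mul_mem hs hg) hx)
      ((⁅H, K⁆).inv_mem (Subgroup.commutator_mem_commutator hs hx))
  intro y hy
  have := hle hy
  rw [Subgroup.mem_comap] at this
  exact this

theorem sgf_fin_nilp_of_inj {N L : Type*} [Group N] [Group L] [Group.IsNilpotent L] (f : N →* L)
    (hf : Function.Injective f) : Group.IsNilpotent N := by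
  apply Subgroup.isNilpotent_of_ker_le_center f
  rw [(MonoidHom.ker_eq_bot_iff f).mpr hf]
  exact bot_le

/-- from the subgroup form (`claim` in `Γ = G ⋊ ⟨σ⟩`) to the automorphism form: a nilpotent normal
`σ`-invariant subgroup `N` of `G` modulo which `σ ^ (p ^ n)` is trivial -/
theorem exists_nilpotent_normal {G : Type u} [Group G] [Finite G] (hG : Group.IsSolvable G)
    {p : ℕ} (hp : p.Prime) (hp2 : p ≠ 2) (σ : MulAut G) (n : ℕ)
    (hσ : σ ^ (p ^ (n + 1)) = 1) (hfpf : ∀ g : G, σ g = g → g = 1) :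
    ∃ N : Subgroup G, N.Normal ∧ (∀ g ∈ N, σ g ∈ N) ∧ Group.IsNilpotent ↥N ∧
      ∀ g : G, g⁻¹ * (σ ^ (p ^ n)) g ∈ N := by
  by_cases hψ : σ ^ (p ^ n) = 1
  · refine ⟨⊥, inferInstance, ?_, inferInstance, ?_⟩
    · intro g hg
      rw [Subgroup.mem_bot] at hg ⊢
      rw [hg, map_one]
    · intro g
      rw [hψ, MulAut.one_apply, inv_mul_cancel]
      exact Subgroup.one_mem _
  · have hpF : Fact p.Prime := ⟨hp⟩
    -- the semidirect product
    let A₀ : Subgroup (MulAut G) := Subgroup.zpowers σ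
    let σ' : ↥A₀ := ⟨σ, Subgroup.mem_zpowers σ⟩
    let ψ' : ↥A₀ := σ' ^ (p ^ n)
    have hψ'coe : ((ψ' : ↥A₀) : MulAut G) = σ ^ (p ^ n) := by
      show ((σ' ^ (p ^ n) : ↥A₀) : MulAut G) = σ ^ (p ^ n)
      rw [Subgroup.coe_pow]
    have hfinΓ : Finite (G ⋊[A₀.subtype] ↥A₀) :=
      Finite.of_equiv _ SemidirectProduct.equivProd.symm
    let il : G →* G ⋊[A₀.subtype] ↥A₀ := SemidirectProduct.inl
    let ir : ↥A₀ →* G ⋊[A₀.subtype] ↥A₀ := SemidirectProduct.inr
    have hil : Function.Injective il := SemidirectProduct.inl_injective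
    have hir : Function.Injective ir := SemidirectProduct.inr_injective
    have haut : ∀ (a : ↥A₀) (g : G), il ((a : MulAut G) g) = ir a * il g * (ir a)⁻¹ := by
      intro a g
      have := SemidirectProduct.inl_aut (φ := A₀.subtype) a g
      rw [map_inv] at this
      exact this
    -- `ψ'` has order `p`
    have hψ'ne : ψ' ≠ 1 := by
      intro h
      apply hψ
      rw [← hψ'coe, h, Subgroup.coe_one]
    have hψ'p : ψ' ^ p = 1 := by
      apply Subtype.ext
      rw [Subgroup.coe_pow, hψ'coe, Subgroup.coe_one, ← pow_mul, ← pow_succ]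
      exact hσ
    have hordψ : orderOf ψ' = p := orderOf_eq_prime hψ'p hψ'ne
    -- `A₀` is a `p`-group
    have hdvd : orderOf σ ∣ p ^ (n + 1) := orderOf_dvd_of_pow_eq_one hσ
    obtain ⟨k, -, hk⟩ := (Nat.dvd_prime_pow hp).1 hdvd
    have hcardA₀ : Nat.card ↥A₀ = p ^ k := by
      rw [Nat.card_zpowers, hk]
    -- the configuration
    have cfg : SCfg il.range ir.range (Subgroup.zpowers (ir ψ')) p := by
      refine ⟨hp, hp2, ?_, ?_, ?_, ?_, ?_, ?_, ?_, ?_⟩
      · show (SemidirectProduct.inl : G →* G ⋊[A₀.subtype] ↥A₀).range.Normal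
        rw [SemidirectProduct.range_inl_eq_ker_rightHom]
        exact MonoidHom.normal_ker _
      · exact solvable_of_surjective (MonoidHom.ofInjective hil).surjective
      · exact isCyclic_of_surjective ir.rangeRestrict ir.rangeRestrict_surjective
      · apply IsPGroup.of_card (n := k)
        rw [← Nat.card_congr (MonoidHom.ofInjective hir).toEquiv, hcardA₀]
      · rw [Subgroup.zpowers_le]
        exact ⟨ψ', rfl⟩
      · rw [Nat.card_zpowers, orderOf_injective ir hir, hordψ]
      · rw [← Nat.card_congr (MonoidHom.ofInjective hil).toEquiv]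
        exact coprime_of_fpf hp σ (n + 1) hσ hfpf
      · rintro _ ⟨g, rfl⟩ hfix
        have hg : g = 1 := by
          apply hfpf
          apply hil
          have h1 := haut σ' g
          have h2 := hfix (ir σ') ⟨σ', rfl⟩
          have h3 : ((σ' : ↥A₀) : MulAut G) g = σ g := rfl
          rw [h3] at h1
          rw [h1, h2, mul_inv_cancel_right]
        rw [hg, map_one]
    have hnil : Group.IsNilpotent ↥⁅il.range, Subgroup.zpowers (ir ψ')⁆ := claim cfg
    have hG₀n : il.range.Normal := cfg.normal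
    refine ⟨(⁅il.range, Subgroup.zpowers (ir ψ')⁆).comap il, ?_, ?_, ?_, ?_⟩
    · -- normal
      constructor
      intro x hx g
      rw [Subgroup.mem_comap] at hx ⊢
      rw [map_mul, map_mul, map_inv]
      exact sgf_fin_left_conj_mem il.range (Subgroup.zpowers (ir ψ')) (il g) ⟨g, rfl⟩ _ hx
    · -- `σ`-invariant
      intro g hg
      rw [Subgroup.mem_comap] at hg ⊢
      have h1 := haut σ' g
      have h3 : ((σ' : ↥A₀) : MulAut G) g = σ g := rfl
      rw [h3] at h1
      rw [h1]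
      apply sgf_fin_conj_mem il.range (Subgroup.zpowers (ir ψ')) (ir σ') _ _ _ hg
      · intro y hy
        exact hG₀n.conj_mem y hy (ir σ')
      · intro x hx
        rw [Subgroup.mem_zpowers_iff] at hx
        obtain ⟨j, rfl⟩ := hx
        have hcomm : ir σ' * (ir ψ') ^ j = (ir ψ') ^ j * ir σ' := by
          rw [← map_zpow, ← map_mul, ← map_mul]
          congr 1
          show σ' * (σ' ^ (p ^ n)) ^ j = (σ' ^ (p ^ n)) ^ j * σ'
          exact ((Commute.refl σ').pow_right (p ^ n)).zpow_right j |>.eq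
        rw [hcomm, mul_inv_cancel_right]
        exact Subgroup.zpow_mem_zpowers _ j
    · -- nilpotent
      apply sgf_fin_nilp_of_inj (il.subgroupComap ⁅il.range, Subgroup.zpowers (ir ψ')⁆)
      intro x y hxy
      apply Subtype.ext
      apply hil
      exact congrArg Subtype.val hxy
    · -- `g⁻¹ * ψ g ∈ N`
      intro g
      rw [Subgroup.mem_comap, map_mul, map_inv, ← hψ'coe, haut ψ' g]
      have e : (il g)⁻¹ * (ir ψ' * il g * (ir ψ')⁻¹) = ⁅(il g)⁻¹, ir ψ'⁆ := by
        rw [commutatorElement_def, inv_inv]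
        simp only [mul_assoc]
      rw [e]
      exact Subgroup.commutator_mem_commutator (il.range.inv_mem ⟨g, rfl⟩)
        (Subgroup.mem_zpowers _)

end Cfsg.Agent.Helper23.SGF
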