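import Mathlib
import Cfsg.Agent.Lib.SG3.SGFDefs

/-! S3793 design (helper23), piece SGF-FH0 (see plans/S3793_plan.md). Proved by helper10. -/

set_option autoImplicit false
set_option linter.unusedSectionVars false

namespace Cfsg.Agent.Helper23.SGF

universe u

/-- the trivial group has Fitting height `0` -/
theorem fitH_of_subsingleton (G : Type u) [Group G] [Subsingleton G] : FitH 0 G := by
  refine ⟨fun _ => ⊥, rfl, Subsingleton.elim _ _, fun _ _ _ => le_rfl, fun _ => ?_, fun i => ?_⟩
  · infer_instance
  · exact i.elim0

/-- a nilpotent subgroup has a vanishing term of its (relative) lower central series -/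
theorem exists_lcs_eq_bot {G : Type u} [Group G] (N : Subgroup G) (h : Group.IsNilpotent ↥N) :
    ∃ k : ℕ, N.lowerCentralSeries k = ⊥ :=
  (Subgroup.isNilpotent_iff_lowerCentralSeries N).1 h

end Cfsg.Agent.Helper23.SGF
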