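import Mathlib
import Cfsg.Agent.Lib.SG3.SGFDefs

/-! S3793 design (helper23), piece SGF-FHEXT (see plans/S3793_plan.md): extension of a Fitting chain
of `G / N` by a nilpotent normal subgroup `N`.  (helper9) -/

set_option autoImplicit false
set_option linter.unusedSectionVars false

namespace Cfsg.Agent.Helper23.SGF

universe u

/-- extension of a Fitting chain of `G / N` by a nilpotent normal subgroup `N` -/
theorem fitH_ext {G : Type u} [Group G] (m : ℕ) (N : Subgroup G) [N.Normal]
    (hN : ∃ k : ℕ, N.lowerCentralSeries k = ⊥) (h : FitH m (G ⧸ N)) : FitH (m + 1) G := by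
  obtain ⟨Fb, h0, hlast, hmono, hnorm, hstep⟩ := h
  refine ⟨Fin.cons ⊥ (fun i => (Fb i).comap (QuotientGroup.mk' N)), ?_, ?_, ?_, ?_, ?_⟩
  · rfl
  · rw [← Fin.succ_last, Fin.cons_succ, hlast, Subgroup.comap_top]
  · intro i j hij
    induction i using Fin.cases with
    | zero =>
      rw [Fin.cons_zero]
      exact bot_le
    | succ i' =>
      induction j using Fin.cases with
      | zero =>
        exfalso
        exact absurd (le_antisymm hij (Fin.zero_le _)) (Fin.succ_ne_zero i')
      | succ j' =>
        rw [Fin.cons_succ, Fin.cons_succ]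
        exact Subgroup.comap_mono (hmono (Fin.succ_le_succ_iff.1 hij))
  · intro i
    induction i using Fin.cases with
    | zero =>
      rw [Fin.cons_zero]
      infer_instance
    | succ i' =>
      rw [Fin.cons_succ]
      have := hnorm i'
      infer_instance
  · intro i
    induction i using Fin.cases with
    | zero =>
      obtain ⟨k, hk⟩ := hN
      refine ⟨k, ?_⟩
      rw [Fin.castSucc_zero, Fin.cons_zero, Fin.cons_succ, h0, MonoidHom.comap_bot,
        QuotientGroup.ker_mk', hk]
    | succ i' =>
      obtain ⟨k, hk⟩ := hstep i'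
      refine ⟨k, ?_⟩
      rw [Fin.cons_succ, ← Fin.succ_castSucc, Fin.cons_succ, ← Subgroup.map_le_iff_le_comap,
        Subgroup.map_lowerCentralSeries]
      exact (Subgroup.lowerCentralSeries_mono k (Subgroup.map_comap_le _ _)).trans hk

end Cfsg.Agent.Helper23.SGF
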