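import Mathlib
import Cfsg.Agent.Lib.SG3.SGFDefs
import Cfsg.Agent.S0032

/-! S3793 design (helper23), piece SGF-AUTQ (see plans/S3793_plan.md): a fixed-point-free
automorphism induces a fixed-point-free automorphism on the quotient by an invariant normal
subgroup.  (helper9) -/

set_option autoImplicit false
set_option linter.unusedSectionVars false

namespace Cfsg.Agent.Helper23.SGF

universe u

/-- a fixed-point-free automorphism induces a fixed-point-free automorphism of `G / N` for an
invariant normal subgroup `N`; if `σ ^ k` is trivial modulo `N` the induced one has `τ ^ k = 1` -/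
theorem exists_quot_aut {G : Type u} [Group G] [Finite G] (σ : MulAut G) (N : Subgroup G)
    [N.Normal] (hN : ∀ g ∈ N, σ g ∈ N) (hfpf : ∀ g : G, σ g = g → g = 1) (k : ℕ)
    (hk : ∀ g : G, g⁻¹ * (σ ^ k) g ∈ N) :
    ∃ τ : MulAut (G ⧸ N), τ ^ k = 1 ∧ ∀ x : G ⧸ N, τ x = x → x = 1 := by
  -- `σ` maps `N` onto `N`
  have hmap : N.map ((σ : G ≃* G) : G →* G) = N := by
    apply Subgroup.eq_of_le_of_card_ge
    · rintro _ ⟨n, hn, rfl⟩
      exact hN n hn
    · rw [Subgroup.card_map_of_injective (σ : G ≃* G).injective]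
  let τ : MulAut (G ⧸ N) := QuotientGroup.congr N N σ hmap
  have hτ : ∀ g : G, τ (QuotientGroup.mk g) = QuotientGroup.mk (σ g) := fun g => rfl
  have hpow : ∀ (m : ℕ) (g : G), (τ ^ m) (QuotientGroup.mk g) = QuotientGroup.mk ((σ ^ m) g) := by
    intro m
    induction m with
    | zero =>
      intro g
      rw [pow_zero, pow_zero, MulAut.one_apply, MulAut.one_apply]
    | succ m ih =>
      intro g
      rw [pow_succ', pow_succ', MulAut.mul_apply, MulAut.mul_apply, ih, hτ]
  refine ⟨τ, ?_, ?_⟩
  · apply MulEquiv.ext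
    intro x
    obtain ⟨g, rfl⟩ := QuotientGroup.mk_surjective x
    rw [hpow, MulAut.one_apply]
    exact (QuotientGroup.eq.2 (hk g)).symm
  · intro x hx
    obtain ⟨g, rfl⟩ := QuotientGroup.mk_surjective x
    rw [hτ] at hx
    have h1 : (σ g)⁻¹ * g ∈ N := QuotientGroup.eq.1 hx
    have h2 : g ∈ N :=
      Cfsg.Agent.S0032.result σ (fun a ha => hfpf a ha) N hN g h1
    exact (QuotientGroup.eq_one_iff g).2 h2

end Cfsg.Agent.Helper23.SGF
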