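import Mathlib
import Cfsg.Agent.Lib.SG3.SGFDefs
import Cfsg.Agent.Lib.SG3.SGFFH0
import Cfsg.Agent.Lib.SG3.SGFFHEXT
import Cfsg.Agent.Lib.SG3.SGFAUTQ
import Cfsg.Agent.Lib.SG3.SGFFIN

/-! S3793 design (helper23): induction on `n` (assembly). -/

set_option autoImplicit false
set_option linter.unusedSectionVars false

namespace Cfsg.Agent.Helper23.SGF

universe u

theorem main_aux {p : ℕ} (hp : p.Prime) (hp2 : p ≠ 2) : ∀ n : ℕ, ∀ (G : Type u) [Group G]
    [Finite G], Group.IsSolvable G → ∀ σ : MulAut G, σ ^ (p ^ n) = 1 →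
    (∀ g : G, σ g = g → g = 1) → FitH n G := by
  intro n
  induction n with
  | zero =>
    intro G _ _ _ σ hσ hfpf
    rw [pow_zero, pow_one] at hσ
    haveI : Subsingleton G := by
      refine ⟨fun a b => ?_⟩
      have ha : a = 1 := hfpf a (by rw [hσ]; rfl)
      have hb : b = 1 := hfpf b (by rw [hσ]; rfl)
      rw [ha, hb]
    exact fitH_of_subsingleton G
  | succ n ih =>
    intro G _ _ hG σ hσ hfpf
    obtain ⟨N, hNn, hNσ, hNnil, hNk⟩ := exists_nilpotent_normal hG hp hp2 σ n hσ hfpf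
    haveI := hNn
    obtain ⟨τ, hτ, hτfpf⟩ := exists_quot_aut σ N hNσ hfpf (p ^ n) hNk
    have hsol : Group.IsSolvable (G ⧸ N) :=
      Group.isSolvable_of_surjective (QuotientGroup.mk'_surjective N)
    exact fitH_ext n N (exists_lcs_eq_bot N hNnil) (ih (G ⧸ N) hsol τ hτ hτfpf)

end Cfsg.Agent.Helper23.SGF
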